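import Cfsg.Agent.H17.SelfCent

set_option autoImplicit false

/-!
# Sylow intersections and subgroups containing several Sylow subgroups (helper17)
-/

namespace Cfsg.Agent.H17

open Subgroup MulAction

universe u

variable {G : Type u} [Group G] [Finite G] {p : ℕ} [Fact p.Prime]

omit [Finite G] in
theorem one_lt_card_sylow_of_two [Finite G] {N : Subgroup G} {P R : Sylow p G} (hPR : P ≠ R) (hP : (P : Subgroup G) ≤ N)
    (hR : (R : Subgroup G) ≤ N) : 1 < Nat.card (Sylow p N) := by
  have h1 : P.subtype hP ≠ R.subtype hR := by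
    intro h
    apply hPR
    apply Sylow.ext
    have h2 : (P : Subgroup G).subgroupOf N = (R : Subgroup G).subgroupOf N := congrArg (fun S : Sylow p N => (S : Subgroup N)) h
    have h3 := congrArg (Subgroup.map N.subtype) h2
    rwa [subgroupOf_map_subtype, subgroupOf_map_subtype, inf_eq_left.mpr hP, inf_eq_left.mpr hR] at h3
  have : Nontrivial (Sylow p N) := ⟨⟨_, _, h1⟩⟩
  exact Finite.one_lt_card

/-- `n_p(N) * |G : N|` divides `|G : P|` for `P ≤ N`. -/
theorem card_sylow_mul_index_dvd {N : Subgroup G} (P : Sylow p G) (hP : (P : Subgroup G) ≤ N) :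
    Nat.card (Sylow p N) * N.index ∣ (P : Subgroup G).index := by
  have h1 := (P.subtype hP).card_dvd_index
  have h2 : ((P.subtype hP : Sylow p N) : Subgroup N).index = (P : Subgroup G).relIndex N := rfl
  rw [h2] at h1
  rw [← relIndex_mul_index hP]
  exact Nat.mul_dvd_mul_right h1 _

/-- Sylow subgroups of order `p^2` are commutative. -/
theorem isMulCommutative_of_card_prime_sq {H : Type u} [Group H] (h : Nat.card H = p ^ 2) : IsMulCommutative H := by
  exact IsPGroup.isMulCommutative_of_card_eq_prime_sq h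

/-- For two distinct Sylow subgroups `P`, `R` whose intersection `D ≠ ⊥` is normalised by both, in a simple
group: data about `N = N(D)`. -/
theorem exists_subgroup_of_inter [IsSimpleGroup G] {P R : Sylow p G} (hPR : P ≠ R)
    (hD : (P : Subgroup G) ⊓ (R : Subgroup G) ≠ ⊥)
    (hP : (P : Subgroup G) ≤ normalizer (((P : Subgroup G) ⊓ (R : Subgroup G) : Subgroup G) : Set G))
    (hR : (R : Subgroup G) ≤ normalizer (((P : Subgroup G) ⊓ (R : Subgroup G) : Subgroup G) : Set G)) :
    normalizer (((P : Subgroup G) ⊓ (R : Subgroup G) : Subgroup G) : Set G) ≠ ⊤ := by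
  intro h
  have h1 : ((P : Subgroup G) ⊓ (R : Subgroup G)).Normal := normalizer_eq_top_iff.mp h
  rcases h1.eq_bot_or_eq_top with h2 | h2
  · exact hD h2
  · apply hPR
    apply Sylow.ext
    rw [eq_top_iff] at h2
    exact le_antisymm (fun x _ => (h2 (mem_top x)).2) (fun x _ => (h2 (mem_top x)).1)

/-- abelian Sylow subgroups normalise their intersection -/
theorem le_normalizer_inter (P R : Sylow p G) (hab : ∀ P : Sylow p G, IsMulCommutative (P : Subgroup G)) :
    (P : Subgroup G) ≤ normalizer (((P : Subgroup G) ⊓ (R : Subgroup G) : Subgroup G) : Set G) ∧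
    (R : Subgroup G) ≤ normalizer (((P : Subgroup G) ⊓ (R : Subgroup G) : Subgroup G) : Set G) := by
  constructor
  · refine le_trans ?_ (centralizer_le_normalizer _)
    intro x hx
    rw [mem_centralizer_iff]
    intro y hy
    have := hab P
    exact congrArg Subtype.val (mul_comm' (⟨y, hy.1⟩ : (P : Subgroup G)) ⟨x, hx⟩)
  · refine le_trans ?_ (centralizer_le_normalizer _)
    intro x hx
    rw [mem_centralizer_iff]
    intro y hy
    have := hab R
    exact congrArg Subtype.val (mul_comm' (⟨y, hy.2⟩ : (R : Subgroup G)) ⟨x, hx⟩)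

/-- Sylow `p`-subgroups of order `p^2`, `n_p ≢ 1 mod p^2`: there is a proper subgroup `N` (the normaliser of
a subgroup `D` of order `p`) with `1 < n_p(N)`, `n_p(N) ≡ 1 mod p` and `n_p(N) * |G:N| ∣ |G:P|`. -/
theorem exists_subgroup_of_sq [IsSimpleGroup G] {m : ℕ} (hcard : Nat.card G = p ^ 2 * m) (hm : ¬ p ∣ m)
    (hn : ¬ Nat.card (Sylow p G) ≡ 1 [MOD p ^ 2]) :
    ∃ (P : Sylow p G) (D : Subgroup G), Nat.card D = p ∧ D ≤ (P : Subgroup G) ∧
      (P : Subgroup G) ≤ centralizer (D : Set G) ∧
      normalizer (D : Set G) ≠ ⊤ ∧ 1 < Nat.card (Sylow p (normalizer (D : Set G))) ∧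
      Nat.card (Sylow p (normalizer (D : Set G))) % p = 1 ∧
      Nat.card (Sylow p (normalizer (D : Set G))) * (normalizer (D : Set G)).index ∣ m := by
  have hp : p.Prime := Fact.out
  obtain ⟨P⟩ : Nonempty (Sylow p G) := inferInstance
  obtain ⟨R, hPR, hidx⟩ := exists_sylow_pair 2 hn P
  have hPc : ∀ P : Sylow p G, Nat.card (P : Subgroup G) = p ^ 2 := fun P => card_sylow_eq P hcard hm
  have hab : ∀ P : Sylow p G, IsMulCommutative (P : Subgroup G) := fun P =>
    isMulCommutative_of_card_prime_sq (hPc P)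
  obtain ⟨hP, hR⟩ := le_normalizer_inter P R hab
  have hle : (P : Subgroup G) ⊓ (R : Subgroup G) ≤ P := inf_le_left
  have h1 := relIndex_mul_card_of_le hle
  rw [inf_relIndex_left, hPc P] at h1
  have h2 : (R : Subgroup G).relIndex (P : Subgroup G) ≠ 1 := by
    rw [Ne, relIndex_eq_one]
    intro h3
    apply hPR
    apply Sylow.ext
    exact Subgroup.eq_of_le_of_card_ge h3 (by rw [hPc P, hPc R])
  have h3 : (R : Subgroup G).relIndex (P : Subgroup G) ≤ p := by
    have : (R : Subgroup G).relIndex (P : Subgroup G) ≤ p ^ (2 - 1) := hidx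
    simpa using this
  have h4 : (R : Subgroup G).relIndex (P : Subgroup G) ∣ p ^ 2 := ⟨_, h1.symm⟩
  have h5 : (R : Subgroup G).relIndex (P : Subgroup G) = p := by
    obtain ⟨k, hk, hk'⟩ := (Nat.dvd_prime_pow hp).mp h4
    rw [hk'] at h2 h3 ⊢
    have : k ≤ 1 := by
      by_contra h6
      have : k = 2 := by omega
      subst this
      nlinarith [hp.two_le]
    have : k ≠ 0 := by
      rintro rfl
      exact h2 (pow_zero p)
    have : k = 1 := by omega
    rw [this, pow_one]
  have hDc : Nat.card ↥((P : Subgroup G) ⊓ (R : Subgroup G)) = p := by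
    rw [h5, pow_two] at h1
    exact Nat.eq_of_mul_eq_mul_left hp.pos h1
  have hDb : (P : Subgroup G) ⊓ (R : Subgroup G) ≠ ⊥ := by
    intro h
    rw [h, card_bot] at hDc
    exact hp.ne_one hDc.symm
  have hidx2 : (P : Subgroup G).index = m := card_sylow_mul P hcard hm
  refine ⟨P, _, hDc, hle, ?_, exists_subgroup_of_inter hPR hDb hP hR, one_lt_card_sylow_of_two hPR hP hR,
    card_sylow_mod, ?_⟩
  · intro x hx
    rw [mem_centralizer_iff]
    intro y hy
    have := hab P
    exact congrArg Subtype.val (mul_comm' (⟨y, hy.1⟩ : (P : Subgroup G)) ⟨x, hx⟩)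
  · rw [← hidx2]
    exact card_sylow_mul_index_dvd P hP

end Cfsg.Agent.H17
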