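import Cfsg.Agent.H17.Basic

set_option autoImplicit false

/-!
# Sylow 2-subgroups of order dividing 4 (helper17)
-/

namespace Cfsg.Agent.H17

open Subgroup MulAction

universe u

theorem card_mulAut_dvd_factorial (H : Type u) [Group H] [Finite H] :
    Nat.card (MulAut H) ∣ (Nat.card H - 1).factorial := by
  classical
  have : Fintype H := Fintype.ofFinite H
  let φ : MulAut H →* Equiv.Perm {x : H // x ≠ 1} :=
    { toFun := fun f => f.toEquiv.subtypeEquiv (fun x => by simp)
      map_one' := by ext; rfl
      map_mul' := fun f g => by ext; rfl }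
  have hφ : Function.Injective φ := by
    intro f g h
    ext x
    by_cases hx : x = 1
    · rw [hx, map_one, map_one]
    · have := congrArg (fun e : Equiv.Perm {x : H // x ≠ 1} => (e ⟨x, hx⟩ : H)) h
      exact this
  have h1 := card_dvd_of_injective φ hφ
  rw [Nat.card_perm] at h1
  have h2 : Nat.card {x : H // x ≠ 1} = Nat.card H - 1 := by
    rw [Nat.card_eq_fintype_card, Fintype.card_subtype_compl, Fintype.card_subtype_eq,
      ← Nat.card_eq_fintype_card]
  rwa [h2] at h1

variable {G : Type u} [Group G] [Finite G]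

/-- In a simple nonabelian group the Sylow 2-subgroups are not cyclic (if the order is even). -/
theorem not_isCyclic_sylow_two [IsSimpleGroup G] (hG : ¬ IsMulCommutative G) (h2 : 2 ∣ Nat.card G)
    (T : Sylow 2 G) : ¬ IsCyclic T := by
  intro hc
  have h1 : (Nat.card G).minFac = 2 := (Nat.minFac_eq_two_iff _).mpr h2
  exact not_normalizer_le_centralizer hG h2 T (IsCyclic.normalizer_le_centralizer h1 hc)

theorem isKleinFour_of_card_four {H : Type u} [Group H] (h : Nat.card H = 4) (hc : ¬ IsCyclic H) :
    IsKleinFour H := by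
  refine ⟨h, ?_⟩
  have : Finite H := Nat.finite_of_card_ne_zero (by rw [h]; norm_num)
  have hnt : Nontrivial H := by
    rw [← Finite.one_lt_card_iff_nontrivial, h]; norm_num
  have h1 : Monoid.exponent H ∣ 4 := h ▸ Group.exponent_dvd_nat_card
  have h2 : Monoid.exponent H ≠ 1 := by
    intro h3
    exact not_subsingleton H (Monoid.exp_eq_one_iff.mp h3)
  have h3 : Monoid.exponent H ≠ 4 := by
    intro h4
    apply hc
    obtain ⟨g, hg⟩ : ∃ g : H, orderOf g = 4 := by
      by_contra hn
      push Not at hn
      have : Monoid.exponent H ∣ 2 := by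
        apply Monoid.exponent_dvd_of_forall_pow_eq_one
        intro g
        have h5 : orderOf g ∣ 4 := h ▸ orderOf_dvd_natCard g
        have h6 : orderOf g ∈ Nat.divisors 4 := Nat.mem_divisors.mpr ⟨h5, by norm_num⟩
        rw [show Nat.divisors 4 = {1, 2, 4} by decide] at h6
        simp only [Finset.mem_insert, Finset.mem_singleton] at h6
        rw [← orderOf_dvd_iff_pow_eq_one]
        rcases h6 with h6 | h6 | h6
        · rw [h6]; norm_num
        · rw [h6]
        · exact absurd h6 (hn g)
      rw [h4] at this
      norm_num at this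
    exact isCyclic_of_orderOf_eq_card g (by rw [hg, h])
  have h4 : Monoid.exponent H ∈ Nat.divisors 4 := Nat.mem_divisors.mpr ⟨h1, by norm_num⟩
  rw [show Nat.divisors 4 = {1, 2, 4} by decide] at h4
  simp only [Finset.mem_insert, Finset.mem_singleton] at h4
  omega

theorem klein_four_of_not_eight [IsSimpleGroup G] (hG : ¬ IsMulCommutative G) (h2 : 2 ∣ Nat.card G)
    (h8 : ¬ 8 ∣ Nat.card G) (T : Sylow 2 G) :
    IsKleinFour ↥(T : Subgroup G) ∧
      (centralizer ((T : Subgroup G) : Set G)).relIndex (normalizer ((T : Subgroup G) : Set G)) = 3 := by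
  have hnc := not_isCyclic_sylow_two hG h2 T
  obtain ⟨k, hk⟩ := T.2.exists_card_eq
  have hk3 : k < 3 := by
    by_contra hk3
    apply h8
    calc 8 = 2 ^ 3 := by norm_num
      _ ∣ 2 ^ k := pow_dvd_pow _ (by omega)
      _ = Nat.card (T : Subgroup G) := hk.symm
      _ ∣ Nat.card G := card_subgroup_dvd_card _
  have hcard : Nat.card (T : Subgroup G) = 4 := by
    interval_cases k
    · exfalso
      apply hnc
      have : Subsingleton (T : Subgroup G) := (Nat.card_eq_one_iff_unique.mp hk).1
      exact isCyclic_of_subsingleton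
    · exfalso
      exact hnc (isCyclic_of_prime_card (p := 2) (by simpa using hk))
    · simpa using hk
  have hK := isKleinFour_of_card_four hcard hnc
  refine ⟨hK, ?_⟩
  have hcomm : IsMulCommutative (T : Subgroup G) := by
    exact IsKleinFour.isMulCommutative
  have h1 := relIndex_dvd_card_mulAut (T : Subgroup G)
  have h3 := h1.trans (card_mulAut_dvd_factorial (T : Subgroup G))
  rw [hcard, show Nat.factorial (4 - 1) = 6 by decide] at h3
  have h4 := relIndex_centralizer_dvd (T : Subgroup G) hcomm
  have h5 : ¬ 2 ∣ (T : Subgroup G).relIndex (normalizer ((T : Subgroup G) : Set G)) := by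
    intro h6
    apply T.not_dvd_index
    exact h6.trans (relIndex_dvd_index_of_le le_normalizer)
  have h6 := relIndex_ne_one hG h2 T
  have h7 : ¬ 2 ∣ (centralizer ((T : Subgroup G) : Set G)).relIndex (normalizer ((T : Subgroup G) : Set G)) :=
    fun h => h5 (h.trans h4)
  generalize (centralizer ((T : Subgroup G) : Set G)).relIndex (normalizer ((T : Subgroup G) : Set G)) = r at *
  have h8 : r ∈ Nat.divisors 6 := Nat.mem_divisors.mpr ⟨h3, by norm_num⟩
  rw [show Nat.divisors 6 = {1, 2, 3, 6} by decide] at h8
  simp only [Finset.mem_insert, Finset.mem_singleton] at h8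
  omega

end Cfsg.Agent.H17
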