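import Cfsg.Agent.H17.Klein

set_option autoImplicit false

/-!
# The dihedral group of order 8 (helper17)
-/

namespace Cfsg.Agent.H17.D4

open Subgroup DihedralGroup

/-- `DihedralGroup 4` acting on `ZMod 4`. -/
def act : DihedralGroup 4 → Equiv.Perm (ZMod 4)
  | r i => ⟨fun x => x + i, fun x => x - i, fun x => by simp, fun x => by simp⟩
  | sr i => ⟨fun x => - i - x, fun x => - i - x, fun x => by ring, fun x => by ring⟩

def actHom : DihedralGroup 4 →* Equiv.Perm (ZMod 4) :=
  MonoidHom.mk' act (by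
    rintro (i | i) (j | j) <;> ext x <;> simp [act] <;> ring)

theorem actHom_injective : Function.Injective actHom := by
  rw [injective_iff_map_eq_one]
  rintro (i | i) h
  · have := congrArg (fun σ : Equiv.Perm (ZMod 4) => σ 0) h
    simp [actHom, act] at this
    rw [this]; rfl
  · have h0 := congrArg (fun σ : Equiv.Perm (ZMod 4) => σ 0) h
    have h1 := congrArg (fun σ : Equiv.Perm (ZMod 4) => σ 1) h
    simp [actHom, act] at h0 h1
    rw [h0] at h1
    exfalso
    revert h1
    decide

theorem card_dihedral4 : Nat.card (DihedralGroup 4) = 8 := by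
  rw [DihedralGroup.nat_card]

/-- A subgroup of order 8 of a group isomorphic to the symmetric group of degree 4 is dihedral. -/
theorem nonempty_mulEquiv_of_perm {H : Type*} [Group H] (e : H ≃* Equiv.Perm (Fin 4)) (K : Subgroup H)
    (hK : Nat.card K = 8) : Nonempty (K ≃* DihedralGroup 4) := by
  have hf : Fact (Nat.Prime 2) := ⟨by norm_num⟩
  have : Finite H := Finite.of_equiv _ e.symm.toEquiv
  have hc : Nat.card H = 24 := by
    rw [Nat.card_congr e.toEquiv, Nat.card_perm, Nat.card_fin]; rfl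
  have hfac : 2 ^ (Nat.card H).factorization 2 = 8 := by
    obtain ⟨P⟩ : Nonempty (Sylow 2 H) := inferInstance
    rw [← P.card_eq_multiplicity]
    exact card_sylow_eq P (k := 3) (m := 3) (by rw [hc]; rfl) (by norm_num)
  let ψ : DihedralGroup 4 →* H :=
    (e.symm.toMonoidHom.comp (show ZMod 4 ≃ Fin 4 from Equiv.refl _).permCongrHom.toMonoidHom).comp actHom
  have hψ : Function.Injective ψ :=
    (e.symm.injective.comp (show ZMod 4 ≃ Fin 4 from Equiv.refl _).permCongrHom.injective).comp actHom_injective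
  have h1 : Nat.card ψ.range = 8 := by
    rw [Nat.card_congr (MonoidHom.ofInjective hψ).symm.toEquiv, card_dihedral4]
  let S1 : Sylow 2 H := Sylow.ofCard K (by rw [hK, hfac])
  let S2 : Sylow 2 H := Sylow.ofCard ψ.range (by rw [h1, hfac])
  have e1 : K ≃* ψ.range := Sylow.equiv S1 S2
  exact ⟨e1.trans (MonoidHom.ofInjective hψ).symm⟩

/-- one Klein four subgroup -/
def A : Subgroup (DihedralGroup 4) where
  carrier := {x | x = 1 ∨ x = r 2 ∨ x = sr 0 ∨ x = sr 2}
  one_mem' := Or.inl rfl
  mul_mem' := by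
    have : ∀ a b : DihedralGroup 4, (a = 1 ∨ a = r 2 ∨ a = sr 0 ∨ a = sr 2) →
      (b = 1 ∨ b = r 2 ∨ b = sr 0 ∨ b = sr 2) → (a * b = 1 ∨ a * b = r 2 ∨ a * b = sr 0 ∨ a * b = sr 2) := by
      decide
    intro a b
    exact this a b
  inv_mem' := by
    have : ∀ a : DihedralGroup 4, (a = 1 ∨ a = r 2 ∨ a = sr 0 ∨ a = sr 2) →
      (a⁻¹ = 1 ∨ a⁻¹ = r 2 ∨ a⁻¹ = sr 0 ∨ a⁻¹ = sr 2) := by
      decide
    intro a
    exact this a

/-- the other Klein four subgroup -/
def B : Subgroup (DihedralGroup 4) where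
  carrier := {x | x = 1 ∨ x = r 2 ∨ x = sr 1 ∨ x = sr 3}
  one_mem' := Or.inl rfl
  mul_mem' := by
    have : ∀ a b : DihedralGroup 4, (a = 1 ∨ a = r 2 ∨ a = sr 1 ∨ a = sr 3) →
      (b = 1 ∨ b = r 2 ∨ b = sr 1 ∨ b = sr 3) → (a * b = 1 ∨ a * b = r 2 ∨ a * b = sr 1 ∨ a * b = sr 3) := by
      decide
    intro a b
    exact this a b
  inv_mem' := by
    have : ∀ a : DihedralGroup 4, (a = 1 ∨ a = r 2 ∨ a = sr 1 ∨ a = sr 3) →
      (a⁻¹ = 1 ∨ a⁻¹ = r 2 ∨ a⁻¹ = sr 1 ∨ a⁻¹ = sr 3) := by
      decide
    intro a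
    exact this a

theorem mem_A (x : DihedralGroup 4) : x ∈ A ↔ x = 1 ∨ x = r 2 ∨ x = sr 0 ∨ x = sr 2 := Iff.rfl
theorem mem_B (x : DihedralGroup 4) : x ∈ B ↔ x = 1 ∨ x = r 2 ∨ x = sr 1 ∨ x = sr 3 := Iff.rfl

instance decMemA : DecidablePred (· ∈ A) := fun x => decidable_of_iff _ (mem_A x).symm
instance decMemB : DecidablePred (· ∈ B) := fun x => decidable_of_iff _ (mem_B x).symm

theorem card_A : Nat.card A = 4 := by
  rw [Nat.card_eq_fintype_card]; decide
theorem card_B : Nat.card B = 4 := by
  rw [Nat.card_eq_fintype_card]; decide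

theorem A_ne_B : A ≠ B := by
  intro h
  have : sr 0 ∈ B := h ▸ (show (sr 0 : DihedralGroup 4) ∈ A from Or.inr (Or.inr (Or.inl rfl)))
  rw [mem_B] at this
  revert this
  decide

theorem klein_A : IsKleinFour A := isKleinFour_of_card_four card_A (by
  intro hc
  obtain ⟨g, hg⟩ := hc.exists_ofOrder_eq_natCard
  rw [card_A] at hg
  have h1 : ∀ x : DihedralGroup 4, x ∈ A → x ^ 2 = 1 := by
    intro x hx
    rw [mem_A] at hx
    revert x
    decide
  have h2 : g ^ 2 = 1 := Subtype.ext (h1 g g.2)
  have := orderOf_dvd_of_pow_eq_one h2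
  rw [hg] at this
  norm_num at this)

theorem klein_B : IsKleinFour B := isKleinFour_of_card_four card_B (by
  intro hc
  obtain ⟨g, hg⟩ := hc.exists_ofOrder_eq_natCard
  rw [card_B] at hg
  have h1 : ∀ x : DihedralGroup 4, x ∈ B → x ^ 2 = 1 := by
    intro x hx
    rw [mem_B] at hx
    revert x
    decide
  have h2 : g ^ 2 = 1 := Subtype.ext (h1 g g.2)
  have := orderOf_dvd_of_pow_eq_one h2
  rw [hg] at this
  norm_num at this)

theorem klein_iff (U : Subgroup (DihedralGroup 4)) : IsKleinFour U ↔ U = A ∨ U = B := by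
  constructor
  · intro hU
    have hcard : Nat.card U = 4 := hU.card_four
    have hsq : ∀ x : DihedralGroup 4, x ∈ U → x * x = 1 := fun x hx =>
      congrArg Subtype.val (IsKleinFour.mul_self (⟨x, hx⟩ : U))
    -- some reflection is in U
    by_cases hs : ∃ i : ZMod 4, sr i ∈ U
    · obtain ⟨i, hi⟩ := hs
      have key : ∀ x : DihedralGroup 4, x ∈ U → x * x = 1 ∧ (sr i * x) * (sr i * x) = 1 := fun x hx =>
        ⟨hsq x hx, hsq _ (mul_mem hi hx)⟩
      have hAB : ∀ i : ZMod 4, ∀ x : DihedralGroup 4, x * x = 1 ∧ (sr i * x) * (sr i * x) = 1 →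
          ((i = 0 ∨ i = 2) ∧ (x = 1 ∨ x = r 2 ∨ x = sr 0 ∨ x = sr 2)) ∨
          ((i = 1 ∨ i = 3) ∧ (x = 1 ∨ x = r 2 ∨ x = sr 1 ∨ x = sr 3)) := by decide
      by_cases hi' : i = 0 ∨ i = 2
      · left
        apply Subgroup.eq_of_le_of_card_ge
        · intro x hx
          rcases hAB i x (key x hx) with h1 | h1
          · exact h1.2
          · exfalso
            have h2 := h1.1
            have h3 : ∀ i : ZMod 4, (i = 0 ∨ i = 2) → (i = 1 ∨ i = 3) → False := by decide
            exact h3 i hi' h2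
        · rw [hcard, card_A]
      · right
        apply Subgroup.eq_of_le_of_card_ge
        · intro x hx
          rcases hAB i x (key x hx) with h1 | h1
          · exact absurd h1.1 hi'
          · exact h1.2
        · rw [hcard, card_B]
    · exfalso
      push Not at hs
      have h1 : ∀ x : DihedralGroup 4, x ∈ U → x = 1 ∨ x = r 2 := by
        intro x hx
        have h2 := hsq x hx
        have h3 : ∀ i : ZMod 4, (r i : DihedralGroup 4) * r i = 1 → (r i : DihedralGroup 4) = 1 ∨ r i = r 2 := by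
          decide
        rcases x with i | i
        · exact h3 i h2
        · exact absurd hx (hs i)
      have h2 : Nat.card U ≤ 2 := by
        have hle : (U : Set (DihedralGroup 4)) ⊆ ({1, r 2} : Finset (DihedralGroup 4)) := by
          intro x hx
          have := h1 x hx
          simp [this]
        have h3 := Nat.card_mono (Finset.finite_toSet _) hle
        simp only [SetLike.coe_sort_coe] at h3
        refine h3.trans ?_
        rw [Nat.card_eq_fintype_card]
        decide
      omega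
  · rintro (rfl | rfl)
    · exact klein_A
    · exact klein_B

theorem card_klein : Nat.card {U : Subgroup (DihedralGroup 4) // IsKleinFour U} = 2 := by
  classical
  have h1 : Nat.card {U : Subgroup (DihedralGroup 4) // IsKleinFour U} =
      Nat.card (({A, B} : Finset (Subgroup (DihedralGroup 4))) : Set (Subgroup (DihedralGroup 4))) := by
    refine Nat.card_congr (Equiv.subtypeEquivRight fun U => ?_)
    rw [klein_iff]
    simp
  rw [h1, Nat.card_coe_set_eq, Set.ncard_coe_finset, Finset.card_pair A_ne_B]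

end Cfsg.Agent.H17.D4
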