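import Cfsg.Agent.H17.Order168d

set_option autoImplicit false
set_option linter.unusedSectionVars false

/-!
# Simple groups of order 168, fifth part: maximal subgroups (helper17)
-/

namespace Cfsg.Agent.H17.O168

open Subgroup MulAction Cfsg.Agent.H17

universe u

attribute [local instance] fact3 fact7

variable {G : Type u} [Group G] [Finite G] [IsSimpleGroup G]

theorem index_ge (h : Nat.card G = 168) {M : Subgroup G} (hM : M ≠ ⊤) : 7 ≤ M.index := by
  have h1 := two_mul_card_dvd_factorial (nc h) M hM
  rw [h] at h1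
  by_contra h2
  push Not at h2
  have h3 : 0 < M.index := Nat.pos_of_ne_zero FiniteIndex.index_ne_zero
  revert h1
  generalize M.index = i at *
  interval_cases i <;> decide

theorem le_of_coatom {M K : Subgroup G} (hM : IsCoatom M) (hMK : M ≤ K) (hK : K ≠ ⊤) : M = K := by
  by_contra hne
  exact hK (hM.2 K (lt_of_le_of_ne hMK hne))

/-- coatoms of order divisible by 7 -/
theorem coatom_seven (h : Nat.card G = 168) {M : Subgroup G} (hM : IsCoatom M) (h7 : 7 ∣ Nat.card M) :
    ∃ P : Sylow 7 G, M = normalizer ((P : Subgroup G) : Set G) := by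
  obtain ⟨x, hx⟩ := exists_prime_orderOf_dvd_card' (G := M) 7 h7
  have hx' : orderOf (x : G) = 7 := (Subgroup.orderOf_coe x).trans hx
  obtain ⟨P, hP⟩ : ∃ P : Sylow 7 G, (P : Subgroup G) = zpowers (x : G) := by
    obtain ⟨P⟩ : Nonempty (Sylow 7 G) := inferInstance
    exact ⟨sylowOfElt P (card7 h P) x hx', rfl⟩
  refine ⟨P, le_of_coatom hM ?_ ?_⟩
  · have hPM : (P : Subgroup G) ≤ M := by rw [hP, zpowers_le]; exact x.2
    have h1 := card_sylow_mul_index_dvd P hPM
    rw [card_sylow_mul P (k := 1) (m := 24) (by rw [h]; rfl) (by norm_num)] at h1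
    have h2 := index_ge h hM.1
    have h3 := Nat.le_of_dvd (by norm_num) h1
    have h4 := card_sylow_mod (p := 7) (G := M)
    have h5 : Nat.card (Sylow 7 M) = 1 := by
      have : Nat.card (Sylow 7 M) < 4 := by nlinarith
      omega
    have h6 : Subsingleton (Sylow 7 M) := (Nat.card_eq_one_iff_unique.mp h5).1
    have h7 : ((P.subtype hPM : Sylow 7 M) : Subgroup M).Normal := (P.subtype hPM).normal_of_subsingleton
    exact (normal_subgroupOf_iff_le_normalizer hPM).mp h7
  · exact normalizer_ne_top (nc h) (by rw [h]; norm_num) P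

theorem card_dvd_24 (h : Nat.card G = 168) {M : Subgroup G} (h7 : ¬ 7 ∣ Nat.card M) : Nat.card M ∣ 24 := by
  have h1 := card_subgroup_dvd_card M
  rw [h, show 168 = 24 * 7 by norm_num] at h1
  have h2 : Nat.Coprime (Nat.card M) 7 := by
    rw [Nat.coprime_comm]; exact (Nat.Prime.coprime_iff_not_dvd (by norm_num)).mpr h7
  exact h2.dvd_of_dvd_mul_right h1

theorem normalizer_klein_ne_top (h : Nat.card G = 168) {U : Subgroup G} (hU : Nat.card U = 4) :
    normalizer (U : Set G) ≠ ⊤ := by
  intro h1
  have h2 : U.Normal := normalizer_eq_top_iff.mp h1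
  rcases h2.eq_bot_or_eq_top with h3 | h3
  · rw [h3, card_bot] at hU; norm_num at hU
  · rw [h3, card_top, h] at hU; norm_num at hU

theorem exists_two_klein (h : Nat.card G = 168) (T : Sylow 2 G) :
    ∃ U W : Subgroup G, U ≤ (T : Subgroup G) ∧ W ≤ (T : Subgroup G) ∧ IsKleinFour U ∧ IsKleinFour W ∧ U ≠ W ∧
      ∀ X : Subgroup G, X ≤ (T : Subgroup G) → IsKleinFour X → X = U ∨ X = W := by
  obtain ⟨e⟩ := sylow_two_dihedral h T
  have h1 := card_klein_le (T : Subgroup G) e
  have h2 := Nat.card_eq_two_iff.mp h1
  obtain ⟨⟨U, hU⟩, ⟨W, hW⟩, hne, huniv⟩ := h2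
  refine ⟨U, W, hU.1, hW.1, hU.2, hW.2, fun h3 => hne (Subtype.ext h3), fun X hX hXk => ?_⟩
  have h3 : (⟨X, hX, hXk⟩ : {U : Subgroup G // U ≤ (T : Subgroup G) ∧ IsKleinFour ↥U}) ∈ (Set.univ : Set _) := trivial
  rw [← huniv] at h3
  rcases h3 with h3 | h3
  · left; exact congrArg Subtype.val h3
  · right; exact congrArg Subtype.val h3

theorem card_sylow_three_of_24 (h : Nat.card G = 168) {M : Subgroup G} (hM : Nat.card M = 24) :
    Nat.card (Sylow 3 M) = 4 := by
  have h1 := card_sylow_mem (p := 3) (G := M) (k := 1) (m := 8) (by rw [hM]; rfl) (by norm_num)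
  rw [show (Nat.divisors 8).filter (· % 3 = 1) = {1, 4} by decide +kernel] at h1
  simp only [Finset.mem_insert, Finset.mem_singleton] at h1
  rcases h1 with h1 | h1
  · exfalso
    obtain ⟨x, hx⟩ := exists_prime_orderOf_dvd_card' (G := M) 3 (by rw [hM]; norm_num)
    have hx' : orderOf (x : G) = 3 := (Subgroup.orderOf_coe x).trans hx
    obtain ⟨P, hP⟩ : ∃ P : Sylow 3 G, (P : Subgroup G) = zpowers (x : G) := by
      obtain ⟨P⟩ : Nonempty (Sylow 3 G) := inferInstance
      exact ⟨sylowOfElt P (card3 h P) x hx', rfl⟩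
    have hPM : (P : Subgroup G) ≤ M := by rw [hP, zpowers_le]; exact x.2
    have h6 : Subsingleton (Sylow 3 M) := (Nat.card_eq_one_iff_unique.mp h1).1
    have h7 : ((P.subtype hPM : Sylow 3 M) : Subgroup M).Normal := (P.subtype hPM).normal_of_subsingleton
    have h8 := card_le_of_le ((normal_subgroupOf_iff_le_normalizer hPM).mp h7)
    rw [cardN3 h P, hM] at h8
    omega
  · exact h1

/-- the normaliser of a Sylow 3-subgroup lies in a subgroup of order 24 -/
theorem normalizer_three_le (h : Nat.card G = 168) (P : Sylow 3 G) :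
    ∃ S : Subgroup G, Nat.card S = 24 ∧ normalizer ((P : Subgroup G) : Set G) ≤ S := by
  obtain ⟨T, D, hD, -, hS⟩ := exists_four_group h
  set S := normalizer (D : Set G) with hSdef
  obtain ⟨x, hx⟩ := exists_prime_orderOf_dvd_card' (G := S) 3 (by rw [hS]; norm_num)
  have hx' : orderOf (x : G) = 3 := (Subgroup.orderOf_coe x).trans hx
  obtain ⟨Q, hQ⟩ : ∃ P : Sylow 3 G, (P : Subgroup G) = zpowers (x : G) :=
    ⟨sylowOfElt P (card3 h P) x hx', rfl⟩
  have hQS : (Q : Subgroup G) ≤ S := by rw [hQ, zpowers_le]; exact x.2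
  have h1 := card_sylow_three_of_24 h hS
  have h2 := card_normalizer_mul (Q.subtype hQS)
  rw [h1, hS] at h2
  have h3 : Nat.card (normalizer (((Q.subtype hQS : Sylow 3 S) : Subgroup S) : Set S)) = 6 := by omega
  rw [Sylow.coe_subtype, ← subgroupOf_normalizer_eq hQS] at h3
  have h4 : normalizer ((Q : Subgroup G) : Set G) ≤ S := by
    have h5 : normalizer ((Q : Subgroup G) : Set G) ⊓ S = normalizer ((Q : Subgroup G) : Set G) := by
      apply Subgroup.eq_of_le_of_card_ge inf_le_left
      rw [cardN3 h Q, ← h3, ← inf_subgroupOf_right]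
      exact (Nat.card_congr (subgroupOfEquivOfLe inf_le_right).toEquiv).le
    rw [← h5]
    exact inf_le_right
  obtain ⟨g, hg⟩ := MulAction.exists_smul_eq G Q P
  refine ⟨S.map (MulAut.conj g).toMonoidHom, ?_, ?_⟩
  · rw [Nat.card_congr (S.equivMapOfInjective _ (MulAut.conj g).injective).symm.toEquiv, hS]
  · have h5 : normalizer ((P : Subgroup G) : Set G) =
        (normalizer ((Q : Subgroup G) : Set G)).map (MulAut.conj g).toMonoidHom := by
      rw [map_equiv_normalizer_eq, ← hg]
      rfl
    rw [h5]
    exact map_mono h4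

theorem coatom_cases (h : Nat.card G = 168) {M : Subgroup G} (hM : IsCoatom M) :
    Nat.card M = 24 ∨ ∃ P : Sylow 7 G, M = normalizer ((P : Subgroup G) : Set G) := by
  by_cases h7 : 7 ∣ Nat.card M
  · exact Or.inr (coatom_seven h hM h7)
  left
  have hd := card_dvd_24 h h7
  have hidx := index_ge h hM.1
  have hci := M.card_mul_index
  rw [h] at hci
  by_cases h3 : 3 ∣ Nat.card M
  · obtain ⟨x, hx⟩ := exists_prime_orderOf_dvd_card' (G := M) 3 h3
    have hx' : orderOf (x : G) = 3 := (Subgroup.orderOf_coe x).trans hx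
    obtain ⟨P, hP⟩ : ∃ P : Sylow 3 G, (P : Subgroup G) = zpowers (x : G) := by
      obtain ⟨P⟩ : Nonempty (Sylow 3 G) := inferInstance
      exact ⟨sylowOfElt P (card3 h P) x hx', rfl⟩
    have hPM : (P : Subgroup G) ≤ M := by rw [hP, zpowers_le]; exact x.2
    by_cases hn1 : Nat.card (Sylow 3 M) = 1
    · exfalso
      have h6 : Subsingleton (Sylow 3 M) := (Nat.card_eq_one_iff_unique.mp hn1).1
      have h7 : ((P.subtype hPM : Sylow 3 M) : Subgroup M).Normal := (P.subtype hPM).normal_of_subsingleton
      have h8 := (normal_subgroupOf_iff_le_normalizer hPM).mp h7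
      obtain ⟨S, hS, hPS⟩ := normalizer_three_le h P
      have h9 : S ≠ ⊤ := by
        rintro rfl
        rw [card_top, h] at hS
        norm_num at hS
      have h10 := le_of_coatom hM (h8.trans hPS) h9
      have h11 := card_le_of_le h8
      rw [cardN3 h P, h10, hS] at h11
      omega
    · have h8 : Nat.card M = 3 ^ 1 * (Nat.card M / 3) := by rw [pow_one, Nat.mul_div_cancel' h3]
      have h9 : ¬ 3 ∣ Nat.card M / 3 := by
        rintro ⟨k, hk⟩
        rw [hk] at h8
        rw [h8] at hd
        have : 9 ∣ 24 := (Dvd.intro k (by ring : 9 * k = 3 ^ 1 * (3 * k))).trans hd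
        norm_num at this
      have h10 := card_sylow_dvd (p := 3) (G := M) h8 h9
      have h11 := card_sylow_mod (p := 3) (G := M)
      have h12 : Nat.card M / 3 ∣ 8 := by
        have : 3 * (Nat.card M / 3) ∣ 3 * 8 := by rw [Nat.mul_div_cancel' h3]; exact hd
        exact Nat.dvd_of_mul_dvd_mul_left (by norm_num) this
      have h13 : Nat.card (Sylow 3 M) ∈ Nat.divisors 8 := Nat.mem_divisors.mpr ⟨h10.trans h12, by norm_num⟩
      rw [show Nat.divisors 8 = {1, 2, 4, 8} by decide +kernel] at h13
      simp only [Finset.mem_insert, Finset.mem_singleton] at h13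
      have h14 : Nat.card (Sylow 3 M) = 4 := by
        rcases h13 with h13 | h13 | h13 | h13 <;> rw [h13] at h11 hn1 <;> omega
      have h15 : Nat.card M / 3 = 4 ∨ Nat.card M / 3 = 8 := by
        rw [h14] at h10
        have h16 : Nat.card M / 3 ∈ Nat.divisors 8 := Nat.mem_divisors.mpr ⟨h12, by norm_num⟩
        rw [show Nat.divisors 8 = {1, 2, 4, 8} by decide +kernel] at h16
        simp only [Finset.mem_insert, Finset.mem_singleton] at h16
        rcases h16 with h16 | h16 | h16 | h16 <;> rw [h16] at h10 ⊢ <;> omega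
      rcases h15 with h15 | h15
      · -- order 12
        exfalso
        have hM12 : Nat.card M = 12 := by omega
        have h16 := card_normalizer_mul (P.subtype hPM)
        rw [h14, hM12] at h16
        have h17 : Nat.card ((P.subtype hPM : Sylow 3 M) : Subgroup M) = 3 := by
          rw [Sylow.coe_subtype, Nat.card_congr (subgroupOfEquivOfLe hPM).toEquiv, card3 h P]
        have h18 : ((P.subtype hPM : Sylow 3 M) : Subgroup M) =
            normalizer (((P.subtype hPM : Sylow 3 M) : Subgroup M) : Set M) :=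
          Subgroup.eq_of_le_of_card_ge le_normalizer (by rw [h17]; omega)
        have h19 : normalizer (((P.subtype hPM : Sylow 3 M) : Subgroup M) : Set M) ≤
            centralizer (((P.subtype hPM : Sylow 3 M) : Subgroup M) : Set M) := by
          rw [← h18]
          have hcyc : IsCyclic ((P.subtype hPM : Sylow 3 M) : Subgroup M) := isCyclic_of_prime_card h17
          have hcomm : IsMulCommutative ((P.subtype hPM : Sylow 3 M) : Subgroup M) := hcyc.isMulCommutative
          intro a ha
          rw [mem_centralizer_iff]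
          intro b hb
          have := mul_comm' (⟨b, hb⟩ : ((P.subtype hPM : Sylow 3 M) : Subgroup M)) ⟨a, ha⟩
          exact congrArg Subtype.val this
        have h20 := (MonoidHom.ker_transferSylow_isComplement' (P.subtype hPM) h19)
        have h21 := h20.card_mul_card
        set V := (MonoidHom.transferSylow (P.subtype hPM) h19).ker with hV
        have h22 : Nat.card V = 4 := by
          rw [h17, hM12] at h21
          omega
        have hVn : V.Normal := by rw [hV]; infer_instance
        set V' := V.map M.subtype with hV'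
        have hV'c : Nat.card V' = 4 := by
          rw [hV', Nat.card_congr (V.equivMapOfInjective M.subtype M.subtype_injective).symm.toEquiv, h22]
        have hMN : M ≤ normalizer (V' : Set G) := by
          have h23 : V' ≤ M := map_subtype_le _
          apply (normal_subgroupOf_iff_le_normalizer h23).mp
          have h24 : V'.subgroupOf M = V := by
            rw [hV', ← comap_subtype, comap_map_eq_self_of_injective M.subtype_injective]
          rw [h24]
          exact hVn
        have h23 := le_of_coatom hM hMN (normalizer_klein_ne_top h hV'c)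
        -- a Sylow 2-subgroup containing V'
        have h24 : IsPGroup 2 V' := IsPGroup.of_card (n := 2) (by rw [hV'c]; rfl)
        obtain ⟨T, hT⟩ := h24.exists_le_sylow
        have h25 := card_dvd_of_le (le_normalizer_of_card h hV'c hT)
        rw [card2 h T, ← h23, hM12] at h25
        norm_num at h25
      · omega
  · exfalso
    have h8 : Nat.card M ∣ 8 := by
      rw [show 24 = 8 * 3 by norm_num] at hd
      have h2 : Nat.Coprime (Nat.card M) 3 := by
        rw [Nat.coprime_comm]; exact (Nat.Prime.coprime_iff_not_dvd (by norm_num)).mpr h3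
      exact h2.dvd_of_dvd_mul_right hd
    have h9 : IsPGroup 2 M := by
      obtain ⟨k, -, hk⟩ := (Nat.dvd_prime_pow Nat.prime_two).mp (show Nat.card M ∣ 2 ^ 3 from h8)
      exact IsPGroup.of_card hk
    obtain ⟨T, hT⟩ := h9.exists_le_sylow
    obtain ⟨U, W, hU, -, hUk, -⟩ := exists_two_klein h T
    have h10 := le_of_coatom hM (hT.trans (le_normalizer_of_card h hUk.card_four hU))
      (normalizer_klein_ne_top h hUk.card_four)
    have h11 := card_normalizer_klein h hUk
    rw [← h10] at h11
    rw [h11] at h8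
    norm_num at h8

theorem card_of_seven (h : Nat.card G = 168) (P : Sylow 7 G) :
    Nat.card (normalizer ((P : Subgroup G) : Set G)) = 21 ∧
      ¬ IsMulCommutative (normalizer ((P : Subgroup G) : Set G)) := by
  refine ⟨cardN7 h P, fun hc => ?_⟩
  have h1 : normalizer ((P : Subgroup G) : Set G) ≤ centralizer ((P : Subgroup G) : Set G) := by
    intro x hx
    rw [mem_centralizer_iff]
    intro y hy
    have := mul_comm' (⟨y, le_normalizer hy⟩ : normalizer ((P : Subgroup G) : Set G)) ⟨x, hx⟩
    exact congrArg Subtype.val this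
  have h2 := card_le_of_le h1
  rw [cardN7 h P, cardC7 h P] at h2
  omega

theorem isCoatom_of_card_24 (h : Nat.card G = 168) {M : Subgroup G} (hM : Nat.card M = 24) : IsCoatom M := by
  refine ⟨?_, fun K hK => ?_⟩
  · rintro rfl
    rw [card_top, h] at hM
    norm_num at hM
  · by_contra hKt
    have h1 := index_ge h hKt
    have h2 := K.card_mul_index
    rw [h] at h2
    have h3 := card_dvd_of_le hK.le
    rw [hM] at h3
    have h4 : Nat.card K ≠ 24 := by
      intro h5
      exact hK.ne (Subgroup.eq_of_le_of_card_ge hK.le (by rw [h5, hM]))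
    have h5 : 0 < Nat.card K := Nat.card_pos
    obtain ⟨k, hk⟩ := h3
    rw [hk] at h2 h4 h5
    have h6 : k * K.index = 7 := by nlinarith
    have h7 : k ≠ 1 := by
      rintro rfl
      exact h4 rfl
    have h8 : k ≠ 0 := by
      rintro rfl
      omega
    nlinarith [Nat.two_le_iff k |>.mpr ⟨h8, h7⟩]

/-- distinct Klein four-groups of a Sylow 2-subgroup have distinct normalisers -/
theorem klein_eq_of_normalizer_eq (h : Nat.card G = 168) (T : Sylow 2 G) {A B : Subgroup G}
    (hA : A ≤ (T : Subgroup G)) (hB : B ≤ (T : Subgroup G)) (hAk : IsKleinFour A) (hBk : IsKleinFour B)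
    (hN : normalizer (A : Set G) = normalizer (B : Set G)) : A = B := by
  by_contra hne
  have h1 : A ⊔ B = (T : Subgroup G) := by
    apply Subgroup.eq_of_le_of_card_ge (sup_le hA hB)
    have h2 : A < A ⊔ B := by
      refine lt_of_le_of_ne le_sup_left fun h3 => ?_
      have h4 : B ≤ A := by
        rw [h3]; exact le_sup_right
      exact hne (Subgroup.eq_of_le_of_card_ge h4 (by rw [hAk.card_four, hBk.card_four])).symm
    have h3 : Nat.card A < Nat.card ↥(A ⊔ B) := by
      refine lt_of_le_of_ne (card_le_of_le h2.le) fun h3 => h2.ne (Subgroup.eq_of_le_of_card_ge h2.le h3.ge)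
    have h4 := card_dvd_of_le (sup_le hA hB)
    have h5 := card_dvd_of_le h2.le
    rw [hAk.card_four] at h3 h5
    rw [card2 h T] at h4 ⊢
    have h6 : Nat.card ↥(A ⊔ B) ∈ Nat.divisors 8 := Nat.mem_divisors.mpr ⟨h4, by norm_num⟩
    rw [show Nat.divisors 8 = {1, 2, 4, 8} by decide +kernel] at h6
    simp only [Finset.mem_insert, Finset.mem_singleton] at h6
    omega
  have h2 : normalizer (B : Set G) ≤ normalizer ((T : Subgroup G) : Set G) := by
    intro x hx
    have hxA : x ∈ normalizer (A : Set G) := by rw [hN]; exact hx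
    have e1 : A.map (MulAut.conj x).toMonoidHom = A := by
      ext y
      rw [mem_map_equiv]
      have := mem_normalizer_iff.mp hxA ((MulAut.conj x).symm y)
      rw [this]
      simp [mul_assoc]
    have e2 : B.map (MulAut.conj x).toMonoidHom = B := by
      ext y
      rw [mem_map_equiv]
      have := mem_normalizer_iff.mp hx ((MulAut.conj x).symm y)
      rw [this]
      simp [mul_assoc]
    have e3 : (T : Subgroup G).map (MulAut.conj x).toMonoidHom = T := by
      rw [← h1, Subgroup.map_sup, e1, e2]
    rw [mem_normalizer_iff]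
    intro y
    have : (MulAut.conj x) y ∈ (T : Subgroup G) ↔ y ∈ (T : Subgroup G) := by
      conv_lhs => rw [← e3]
      constructor
      · rintro ⟨z, hz, hzy⟩
        have : z = y := (MulAut.conj x).injective hzy
        rw [← this]
        exact hz
      · intro hy
        exact ⟨y, hy, rfl⟩
    exact this.symm
  rw [normalizer_sylow_two h T] at h2
  have h3 := card_le_of_le h2
  rw [card_normalizer_klein h hBk, card2 h T] at h3
  omega

/-- the Klein four-group of the symmetric group of degree 4 -/
def V4 : Subgroup (Equiv.Perm (Fin 4)) where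
  carrier := {σ | σ * σ = 1 ∧ Equiv.Perm.sign σ = 1}
  one_mem' := by simp
  mul_mem' := by
    have : ∀ a b : Equiv.Perm (Fin 4), (a * a = 1 ∧ Equiv.Perm.sign a = 1) → (b * b = 1 ∧ Equiv.Perm.sign b = 1) →
      ((a * b) * (a * b) = 1 ∧ Equiv.Perm.sign (a * b) = 1) := by decide +kernel
    intro a b ha hb
    exact this a b ha hb
  inv_mem' := by
    intro a ha
    obtain ⟨h1, h2⟩ := ha
    have h3 : a⁻¹ = a := inv_eq_of_mul_eq_one_left h1
    show a⁻¹ * a⁻¹ = 1 ∧ Equiv.Perm.sign a⁻¹ = 1
    rw [h3]
    exact ⟨h1, h2⟩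

theorem mem_V4 (σ : Equiv.Perm (Fin 4)) : σ ∈ V4 ↔ σ * σ = 1 ∧ Equiv.Perm.sign σ = 1 := Iff.rfl

instance decMemV4 : DecidablePred (· ∈ V4) := fun x => decidable_of_iff _ (mem_V4 x).symm

theorem card_V4 : Nat.card V4 = 4 := by
  rw [Nat.card_eq_fintype_card]; decide +kernel

theorem klein_V4 : IsKleinFour V4 := isKleinFour_of_card_four card_V4 (by
  intro hc
  obtain ⟨g, hg⟩ := hc.exists_ofOrder_eq_natCard
  rw [card_V4] at hg
  have h2 : g ^ 2 = 1 := by
    apply Subtype.ext
    rw [pow_two]
    exact ((mem_V4 g.1).mp g.2).1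
  have := orderOf_dvd_of_pow_eq_one h2
  rw [hg] at this
  norm_num at this)

theorem normal_V4 : V4.Normal where
  conj_mem := by
    intro n hn g
    rw [mem_V4] at hn ⊢
    constructor
    · calc g * n * g⁻¹ * (g * n * g⁻¹) = g * (n * n) * g⁻¹ := by group
        _ = 1 := by rw [hn.1]; group
    · rw [Equiv.Perm.sign_mul, Equiv.Perm.sign_mul, hn.2, mul_one, Equiv.Perm.sign_inv, Int.units_mul_self]

theorem eq_normalizer_of_card_24 (h : Nat.card G = 168) {M : Subgroup G} (hM : Nat.card M = 24) :
    ∃ V : Subgroup G, IsKleinFour V ∧ M = normalizer (V : Set G) := by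
  obtain ⟨e⟩ := equiv_perm_of_card h hM
  set V := V4.comap e.toMonoidHom with hV
  have hVn : V.Normal := normal_V4.comap _
  have h1 : IsKleinFour V := by
    have e1 : V ≃* V.map e.toMonoidHom := V.equivMapOfInjective e.toMonoidHom e.injective
    have h2 : V.map e.toMonoidHom = V4 := map_comap_eq_self_of_surjective e.surjective _
    have h3 : IsKleinFour (V.map e.toMonoidHom) := by rw [h2]; exact klein_V4
    exact isKleinFour_of_mulEquiv e1.symm h3
  have h2 : IsKleinFour (V.map M.subtype) :=
    isKleinFour_of_mulEquiv (V.equivMapOfInjective M.subtype M.subtype_injective) h1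
  refine ⟨V.map M.subtype, h2, ?_⟩
  apply Subgroup.eq_of_le_of_card_ge
  · have h23 : V.map M.subtype ≤ M := map_subtype_le _
    apply (normal_subgroupOf_iff_le_normalizer h23).mp
    have h24 : (V.map M.subtype).subgroupOf M = V := by
      rw [← comap_subtype, comap_map_eq_self_of_injective M.subtype_injective]
    rw [h24]
    exact hVn
  · rw [card_normalizer_klein h h2, hM]

end Cfsg.Agent.H17.O168
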