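import Cfsg.Agent.H17.FixedPts
import Cfsg.Agent.H17.SylowInter

set_option autoImplicit false

/-!
# Simple groups of order 168 (helper17)
-/

namespace Cfsg.Agent.H17.O168

open Subgroup MulAction Cfsg.Agent.H17

universe u

theorem fact3 : Fact (Nat.Prime 3) := ⟨by norm_num⟩
theorem fact7 : Fact (Nat.Prime 7) := ⟨by norm_num⟩

attribute [local instance] fact3 fact7

variable {G : Type u} [Group G] [Finite G] [IsSimpleGroup G]

set_option linter.unusedSectionVars false

omit [Finite G] in
theorem nc (h : Nat.card G = 168) : ¬ IsMulCommutative G := not_comm_of_not_prime (by rw [h]; norm_num)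

theorem n7 (h : Nat.card G = 168) : Nat.card (Sylow 7 G) = 8 := by
  have h1 := card_sylow_mem (p := 7) (G := G) (k := 1) (m := 24) (by rw [h]; rfl) (by norm_num)
  rw [show (Nat.divisors 24).filter (· % 7 = 1) = {1, 8} by decide +kernel] at h1
  have h2 := card_sylow_ne_one (p := 7) (nc h) (by rw [h]; norm_num)
  simpa [h2] using h1

theorem card7 (h : Nat.card G = 168) (P : Sylow 7 G) : Nat.card (P : Subgroup G) = 7 := by
  have := card_sylow_eq P (k := 1) (m := 24) (by rw [h]; rfl) (by norm_num)
  simpa using this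

theorem card3 (h : Nat.card G = 168) (P : Sylow 3 G) : Nat.card (P : Subgroup G) = 3 := by
  have := card_sylow_eq P (k := 1) (m := 56) (by rw [h]; rfl) (by norm_num)
  simpa using this

theorem card2 (h : Nat.card G = 168) (P : Sylow 2 G) : Nat.card (P : Subgroup G) = 8 := by
  have := card_sylow_eq P (k := 3) (m := 21) (by rw [h]; rfl) (by norm_num)
  simpa using this

theorem cardN7 (h : Nat.card G = 168) (P : Sylow 7 G) :
    Nat.card (normalizer ((P : Subgroup G) : Set G)) = 21 := by
  have := card_normalizer_mul P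
  rw [n7 h, h] at this
  omega

theorem cardC7 (h : Nat.card G = 168) (P : Sylow 7 G) :
    Nat.card (centralizer ((P : Subgroup G) : Set G)) = 7 := by
  have h1 := relIndex_dvd_of_card_prime (p := 7) (by norm_num) (P : Subgroup G) (card7 h P)
  have h2 := relIndex_ne_one (nc h) (by rw [h]; norm_num) P
  have h3 := relIndex_mul_card_of_le (centralizer_le_normalizer (s := ((P : Subgroup G) : Set G)))
  rw [cardN7 h P] at h3
  have h4 : (centralizer ((P : Subgroup G) : Set G)).relIndex (normalizer ((P : Subgroup G) : Set G)) ∣ 21 :=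
    ⟨_, h3.symm⟩
  have h5 := Nat.dvd_gcd h4 h1
  rw [show Nat.gcd 21 (7 - 1) = 3 by norm_num] at h5
  rw [Nat.dvd_prime (by norm_num)] at h5
  rcases h5 with h5 | h5
  · exact absurd h5 h2
  · rw [h5] at h3
    omega

theorem not_commute_of_order7 (h : Nat.card G = 168) {x y : G} (hx : orderOf x = 7) (hxy : Commute x y) :
    y ∈ zpowers x := by
  obtain ⟨P, hP⟩ : ∃ P : Sylow 7 G, (P : Subgroup G) = zpowers x := by
    obtain ⟨P⟩ : Nonempty (Sylow 7 G) := inferInstance
    exact ⟨sylowOfElt P (card7 h P) x hx, rfl⟩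
  have h1 : (P : Subgroup G) = centralizer ((P : Subgroup G) : Set G) := by
    apply Subgroup.eq_of_le_of_card_ge
    · rw [hP]
      intro a ha b hb
      have ha' := mem_zpowers_iff.mp ha
      have hb' := mem_zpowers_iff.mp hb
      obtain ⟨i, rfl⟩ := ha'
      obtain ⟨j, rfl⟩ := hb'
      exact zpow_mul_comm x j i
    · rw [cardC7 h P, card7 h P]
  rw [← hP, h1, hP, zpowers_eq_closure, centralizer_closure, mem_centralizer_singleton_iff]
  exact hxy.symm

theorem n3 (h : Nat.card G = 168) : Nat.card (Sylow 3 G) = 28 := by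
  have h1 := card_sylow_mem (p := 3) (G := G) (k := 1) (m := 56) (by rw [h]; rfl) (by norm_num)
  rw [show (Nat.divisors 56).filter (· % 3 = 1) = {1, 4, 7, 28} by decide +kernel] at h1
  have h2 := card_sylow_ne_one (p := 3) (nc h) (by rw [h]; norm_num)
  have h3 := two_mul_card_dvd_factorial_card_sylow (p := 3) (nc h) (by rw [h]; norm_num)
  simp only [Finset.mem_insert, Finset.mem_singleton] at h1
  rcases h1 with h1 | h1 | h1 | h1
  · exact absurd h1 h2
  · rw [h1, h] at h3
    exfalso; revert h3; decide
  · exfalso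
    -- N(P7) has 7 Sylow 3-subgroups
    obtain ⟨P⟩ : Nonempty (Sylow 7 G) := inferInstance
    set N := normalizer ((P : Subgroup G) : Set G) with hN
    have hNc : Nat.card N = 21 := cardN7 h P
    have h4 := card_sylow_mem (p := 3) (G := N) (k := 1) (m := 7) (by rw [hNc]; rfl) (by norm_num)
    rw [show (Nat.divisors 7).filter (· % 3 = 1) = {1, 7} by decide +kernel] at h4
    simp only [Finset.mem_insert, Finset.mem_singleton] at h4
    -- the Sylow 3-subgroup of N is not normal in N
    have h5 : Nat.card (Sylow 3 N) ≠ 1 := by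
      intro h5
      have hs : Subsingleton (Sylow 3 N) := (Nat.card_eq_one_iff_unique.mp h5).1
      obtain ⟨Q⟩ : Nonempty (Sylow 3 N) := inferInstance
      have hQn : (Q : Subgroup N).Normal := Q.normal_of_subsingleton
      have hQc : Nat.card (Q : Subgroup N) = 3 := by
        have := card_sylow_eq Q (k := 1) (m := 7) (by rw [hNc]; rfl) (by norm_num)
        simpa using this
      have h6 := relIndex_dvd_of_card_prime (p := 3) (by norm_num) (Q : Subgroup N) hQc
      rw [normalizer_eq_top (Q : Subgroup N), relIndex_top_right] at h6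
      have h7 : (centralizer ((Q : Subgroup N) : Set N)).index ∣ 21 := hNc ▸ index_dvd_card _
      have h8 := Nat.dvd_gcd h6 h7
      rw [show Nat.gcd (3 - 1) 21 = 1 by norm_num, Nat.dvd_one, index_eq_one] at h8
      -- so everything in N centralizes Q
      obtain ⟨x, hx⟩ := exists_prime_orderOf_dvd_card' (G := N) 7 (by rw [hNc]; norm_num)
      obtain ⟨y, hy⟩ := exists_prime_orderOf_dvd_card' (G := (Q : Subgroup N)) 3 (by rw [hQc])
      have hxy : x * (y : N) = (y : N) * x :=
        (mem_centralizer_iff.mp (show x ∈ centralizer ((Q : Subgroup N) : Set N) by rw [h8]; trivial) y y.2).symm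
      have hx' : orderOf (x : G) = 7 := (Subgroup.orderOf_coe x).trans hx
      have hy' : orderOf ((y : N) : G) = 3 := (Subgroup.orderOf_coe (y : N)).trans ((Subgroup.orderOf_coe y).trans hy)
      have h9 := not_commute_of_order7 h hx' (show Commute (x : G) ((y : N) : G) from congrArg Subtype.val hxy)
      have h10 := orderOf_dvd_of_mem_zpowers h9
      rw [hx', hy'] at h10
      norm_num at h10
    have h6 : Nat.card (Sylow 3 N) = 7 := by omega
    -- all Sylow 3-subgroups of G are inside N
    have h7 : ∀ Q : Sylow 3 G, (Q : Subgroup G) ≤ N := by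
      let f : Sylow 3 N → Sylow 3 G := fun S => Sylow.ofCard ((S : Subgroup N).map N.subtype) (by
        rw [Nat.card_congr ((S : Subgroup N).equivMapOfInjective N.subtype N.subtype_injective).symm.toEquiv]
        obtain ⟨Q⟩ : Nonempty (Sylow 3 G) := inferInstance
        rw [← Q.card_eq_multiplicity]
        have h8 : Nat.card (S : Subgroup N) = 3 := by
          have := card_sylow_eq S (k := 1) (m := 7) (by rw [hNc]; rfl) (by norm_num)
          simpa using this
        exact h8.trans (card3 h Q).symm)
      have hf : Function.Injective f := by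
        intro S S' hSS
        apply Sylow.ext
        have h8 : (S : Subgroup N).map N.subtype = (S' : Subgroup N).map N.subtype :=
          congrArg (fun R : Sylow 3 G => (R : Subgroup G)) hSS
        exact map_injective N.subtype_injective h8
      have hb : Function.Bijective f := (Nat.bijective_iff_injective_and_card f).mpr ⟨hf, by rw [h6, h1]⟩
      intro Q
      obtain ⟨S, rfl⟩ := hb.2 Q
      exact map_subtype_le _
    -- the normal closure of a Sylow 3-subgroup is in N
    obtain ⟨Q⟩ : Nonempty (Sylow 3 G) := inferInstance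
    have h8 : normalClosure ((Q : Subgroup G) : Set G) ≤ N := by
      rw [normalClosure, closure_le]
      intro x hx
      obtain ⟨y, hy, hyx⟩ := Group.mem_conjugatesOfSet_iff.mp hx
      obtain ⟨c, rfl⟩ := isConj_iff.mp hyx
      have h9 := h7 (c • Q)
      rw [Sylow.coe_subgroup_smul] at h9
      exact h9 (Subgroup.smul_mem_pointwise_smul y (MulAut.conj c) _ hy)
    rcases (normalClosure_normal (s := ((Q : Subgroup G) : Set G))).eq_bot_or_eq_top with h9 | h9
    · have h10 : (Q : Subgroup G) ≤ ⊥ := by rw [← h9]; exact le_normalClosure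
      rw [le_bot_iff] at h10
      have := card3 h Q
      rw [h10, card_bot] at this
      omega
    · rw [h9] at h8
      have h10 := card_le_of_le h8
      rw [hNc, card_top, h] at h10
      omega
  · exact h1

theorem cardN3 (h : Nat.card G = 168) (P : Sylow 3 G) :
    Nat.card (normalizer ((P : Subgroup G) : Set G)) = 6 := by
  have := card_normalizer_mul P
  rw [n3 h, h] at this
  omega

theorem cardC3 (h : Nat.card G = 168) (P : Sylow 3 G) :
    Nat.card (centralizer ((P : Subgroup G) : Set G)) = 3 := by
  have h1 := relIndex_dvd_of_card_prime (p := 3) (by norm_num) (P : Subgroup G) (card3 h P)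
  have h2 := relIndex_ne_one (nc h) (by rw [h]; norm_num) P
  have h3 := relIndex_mul_card_of_le (centralizer_le_normalizer (s := ((P : Subgroup G) : Set G)))
  rw [cardN3 h P] at h3
  rw [show 3 - 1 = 2 by norm_num] at h1
  rw [Nat.dvd_prime (by norm_num)] at h1
  rcases h1 with h5 | h5
  · exact absurd h5 h2
  · rw [h5] at h3
    omega

theorem mem_zpowers_of_commute3 (h : Nat.card G = 168) {x y : G} (hx : orderOf x = 3) (hxy : Commute x y) :
    y ∈ zpowers x := by
  obtain ⟨P, hP⟩ : ∃ P : Sylow 3 G, (P : Subgroup G) = zpowers x := by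
    obtain ⟨P⟩ : Nonempty (Sylow 3 G) := inferInstance
    exact ⟨sylowOfElt P (card3 h P) x hx, rfl⟩
  have h1 : (P : Subgroup G) = centralizer ((P : Subgroup G) : Set G) := by
    apply Subgroup.eq_of_le_of_card_ge
    · rw [hP]
      intro a ha b hb
      have ha' := mem_zpowers_iff.mp ha
      have hb' := mem_zpowers_iff.mp hb
      obtain ⟨i, rfl⟩ := ha'
      obtain ⟨j, rfl⟩ := hb'
      exact zpow_mul_comm x j i
    · rw [cardC3 h P, card3 h P]
  rw [← hP, h1, hP, zpowers_eq_closure, centralizer_closure, mem_centralizer_singleton_iff]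
  exact hxy.symm

theorem orders (h : Nat.card G = 168) (g : G) : orderOf g ∣ 8 ∨ orderOf g = 3 ∨ orderOf g = 7 := by
  have h1 : orderOf g ∣ 168 := h ▸ orderOf_dvd_natCard g
  by_cases h3 : 3 ∣ orderOf g
  · right; left
    obtain ⟨k, hk⟩ := h3
    have hk0 : k ≠ 0 := by
      rintro rfl
      have := orderOf_pos g
      omega
    have h2 : orderOf (g ^ k) = 3 := by
      rw [orderOf_pow' g hk0, hk, Nat.gcd_eq_right (dvd_mul_left k 3), Nat.mul_div_cancel _ (Nat.pos_of_ne_zero hk0)]
    have h4 := mem_zpowers_of_commute3 h h2 (Commute.pow_self g k)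
    have h5 := orderOf_dvd_of_mem_zpowers h4
    rw [h2] at h5
    exact Nat.dvd_antisymm h5 ⟨k, hk⟩
  · by_cases h7 : 7 ∣ orderOf g
    · right; right
      obtain ⟨k, hk⟩ := h7
      have hk0 : k ≠ 0 := by
        rintro rfl
        have := orderOf_pos g
        omega
      have h2 : orderOf (g ^ k) = 7 := by
        rw [orderOf_pow' g hk0, hk, Nat.gcd_eq_right (dvd_mul_left k 7), Nat.mul_div_cancel _ (Nat.pos_of_ne_zero hk0)]
      have h4 := not_commute_of_order7 h h2 (Commute.pow_self g k)
      have h5 := orderOf_dvd_of_mem_zpowers h4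
      rw [h2] at h5
      exact Nat.dvd_antisymm h5 ⟨k, hk⟩
    · left
      have h4 : Nat.Coprime (orderOf g) 21 := by
        rw [show 21 = 3 * 7 by norm_num]
        apply Nat.Coprime.mul_right
        · rw [Nat.coprime_comm]; exact (Nat.Prime.coprime_iff_not_dvd (by norm_num)).mpr h3
        · rw [Nat.coprime_comm]; exact (Nat.Prime.coprime_iff_not_dvd (by norm_num)).mpr h7
      exact h4.dvd_of_dvd_mul_right (by norm_num; exact h1)

theorem card_ord3 (h : Nat.card G = 168) : Nat.card {g : G // orderOf g = 3} = 56 := by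
  obtain ⟨P⟩ : Nonempty (Sylow 3 G) := inferInstance
  rw [card_orderOf_eq_prime P (card3 h P), n3 h]

theorem card_ord7 (h : Nat.card G = 168) : Nat.card {g : G // orderOf g = 7} = 48 := by
  obtain ⟨P⟩ : Nonempty (Sylow 7 G) := inferInstance
  rw [card_orderOf_eq_prime P (card7 h P), n7 h]

theorem card_two_elts (h : Nat.card G = 168) : Nat.card {g : G // orderOf g ∣ 8} = 64 := by
  classical
  have : Fintype G := Fintype.ofFinite G
  have h1 : Nat.card G = Nat.card {g : G // orderOf g ∣ 8} + Nat.card {g : G // ¬ orderOf g ∣ 8} := by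
    rw [← Nat.card_sum]
    exact Nat.card_congr (Equiv.sumCompl _).symm
  have h2 : Nat.card {g : G // ¬ orderOf g ∣ 8} =
      Nat.card {g : G // orderOf g = 3} + Nat.card {g : G // orderOf g = 7} := by
    have h3 : Nat.card {g : G // ¬ orderOf g ∣ 8} = Nat.card {g : G // orderOf g = 3 ∨ orderOf g = 7} := by
      refine Nat.card_congr (Equiv.subtypeEquivRight fun g => ?_)
      constructor
      · intro h4
        rcases orders h g with h5 | h5
        · exact absurd h5 h4
        · exact h5
      · rintro (h4 | h4) <;> rw [h4] <;> norm_num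
    rw [h3, Nat.card_eq_fintype_card, Nat.card_eq_fintype_card, Nat.card_eq_fintype_card]
    apply Fintype.card_subtype_or_disjoint
    rw [Pi.disjoint_iff]
    intro g
    rw [Prop.disjoint_iff]
    rintro ⟨h4, h5⟩
    omega
  rw [card_ord3 h, card_ord7 h] at h2
  omega

theorem n2 (h : Nat.card G = 168) : Nat.card (Sylow 2 G) = 21 := by
  classical
  have h1 := card_sylow_mem (p := 2) (G := G) (k := 3) (m := 21) (by rw [h]; rfl) (by norm_num)
  rw [show (Nat.divisors 21).filter (· % 2 = 1) = {1, 3, 7, 21} by decide +kernel] at h1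
  simp only [Finset.mem_insert, Finset.mem_singleton] at h1
  -- the nonidentity 2-elements inject into the disjoint union of Sylow subgroups minus 1
  have hex : ∀ g : {g : G // orderOf g ∣ 8 ∧ g ≠ 1}, ∃ T : Sylow 2 G, g.1 ∈ (T : Subgroup G) := by
    rintro ⟨g, hg, hg1⟩
    have hp : IsPGroup 2 (zpowers g) := by
      rw [show 8 = 2 ^ 3 by norm_num, Nat.dvd_prime_pow (by norm_num)] at hg
      obtain ⟨k, -, hk⟩ := hg
      exact IsPGroup.of_card (n := k) (by rw [Nat.card_zpowers, hk])
    obtain ⟨T, hT⟩ := hp.exists_le_sylow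
    exact ⟨T, hT (mem_zpowers g)⟩
  choose f hf using hex
  let F : {g : G // orderOf g ∣ 8 ∧ g ≠ 1} → Σ T : Sylow 2 G, {x : G // x ∈ (T : Subgroup G) ∧ x ≠ 1} :=
    fun g => ⟨f g, g.1, hf g, g.2.2⟩
  have hF : Function.Injective F := by
    intro a b hab
    apply Subtype.ext
    have : (F a).2.1 = (F b).2.1 := by rw [hab]
    exact this
  have h2 := Nat.card_le_card_of_injective F hF
  have : Fintype (Sylow 2 G) := Fintype.ofFinite _
  rw [Nat.card_sigma] at h2
  have h3 : ∀ T : Sylow 2 G, Nat.card {x : G // x ∈ (T : Subgroup G) ∧ x ≠ 1} = 7 := by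
    intro T
    have h4 : Nat.card {x : (T : Subgroup G) // x ≠ 1} = 7 := by
      have : Fintype (T : Subgroup G) := Fintype.ofFinite _
      rw [Nat.card_eq_fintype_card, Fintype.card_subtype_compl, Fintype.card_subtype_eq,
        ← Nat.card_eq_fintype_card, card2 h T]
    rw [← h4]
    refine Nat.card_congr
      { toFun := fun x => ⟨⟨x.1, x.2.1⟩, fun h => x.2.2 (congrArg Subtype.val h)⟩
        invFun := fun x => ⟨x.1.1, x.1.2, fun h => x.2 (Subtype.ext h)⟩
        left_inv := fun x => rfl
        right_inv := fun x => rfl }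
  rw [Finset.sum_congr rfl (fun T _ => h3 T), Finset.sum_const, Finset.card_univ, smul_eq_mul,
    ← Nat.card_eq_fintype_card] at h2
  have h5 : Nat.card {g : G // orderOf g ∣ 8 ∧ g ≠ 1} = 63 := by
    have : Fintype {g : G // orderOf g ∣ 8} := Fintype.ofFinite _
    have h6 : Nat.card {g : {g : G // orderOf g ∣ 8} // g ≠ ⟨1, by simp⟩} = 63 := by
      rw [Nat.card_eq_fintype_card, Fintype.card_subtype_compl, Fintype.card_subtype_eq,
        ← Nat.card_eq_fintype_card, card_two_elts h]
    rw [← h6]
    refine Nat.card_congr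
      { toFun := fun x => ⟨⟨x.1, x.2.1⟩, fun h => x.2.2 (congrArg Subtype.val h)⟩
        invFun := fun x => ⟨x.1.1, x.1.2, fun h => x.2 (Subtype.ext h)⟩
        left_inv := fun x => rfl
        right_inv := fun x => rfl }
  rw [h5] at h2
  omega

end Cfsg.Agent.H17.O168
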