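import Cfsg.Agent.H17.Order168
import Cfsg.Agent.H17.Dihedral4
import Cfsg.Agent.S1012

set_option autoImplicit false
set_option linter.unusedSectionVars false

/-!
# Simple groups of order 168, second part (helper17)
-/

namespace Cfsg.Agent.H17

open Subgroup MulAction

universe u

/-- An element of `N(D)` of order prime to `|Aut D|` centralises `D`. -/
theorem centralizes_of_coprime {G : Type u} [Group G] (D : Subgroup G) {y : G}
    (hy : y ∈ normalizer (D : Set G)) (hc : (orderOf y).Coprime (Nat.card (MulAut D))) [Finite D] :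
    y ∈ centralizer (D : Set G) := by
  have h1 : D.normalizerMonoidHom ⟨y, hy⟩ = 1 := by
    have h2 : orderOf (D.normalizerMonoidHom ⟨y, hy⟩) ∣ orderOf (⟨y, hy⟩ : normalizer (D : Set G)) :=
      orderOf_map_dvd _ _
    have h3 : orderOf (⟨y, hy⟩ : normalizer (D : Set G)) = orderOf y := (Subgroup.orderOf_coe _).symm
    rw [h3] at h2
    have h4 : orderOf (D.normalizerMonoidHom ⟨y, hy⟩) ∣ Nat.card (MulAut D) := orderOf_dvd_natCard _
    have h5 := Nat.dvd_gcd h2 h4
    rw [hc.gcd_eq_one] at h5
    exact orderOf_eq_one_iff.mp (Nat.dvd_one.mp h5)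
  have h2 : (⟨y, hy⟩ : normalizer (D : Set G)) ∈ D.normalizerMonoidHom.ker := h1
  rw [normalizerMonoidHom_ker] at h2
  exact h2

end Cfsg.Agent.H17

namespace Cfsg.Agent.H17.O168

open Subgroup MulAction Cfsg.Agent.H17

universe u

attribute [local instance] fact3 fact7

variable {G : Type u} [Group G] [Finite G] [IsSimpleGroup G]

/-- a nontrivial 2-element commutes with no element of order 3 or 7 -/
theorem not_commute (h : Nat.card G = 168) {x t : G} (hx : orderOf x = 3 ∨ orderOf x = 7)
    (ht : orderOf t ∣ 8) (ht1 : t ≠ 1) (hc : Commute x t) : False := by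
  apply ht1
  rcases hx with hx | hx
  · have h1 := orderOf_dvd_of_mem_zpowers (mem_zpowers_of_commute3 h hx hc)
    rw [hx] at h1
    have h2 := Nat.dvd_gcd h1 ht
    norm_num at h2
    exact h2
  · have h1 := orderOf_dvd_of_mem_zpowers (not_commute_of_order7 h hx hc)
    rw [hx] at h1
    have h2 := Nat.dvd_gcd h1 ht
    norm_num at h2
    exact h2

theorem orderOf_dvd_eight_of_mem {D : Subgroup G} (hD : Nat.card D = 2 ∨ Nat.card D = 4 ∨ Nat.card D = 8)
    {t : G} (ht : t ∈ D) : orderOf t ∣ 8 := by
  have h1 := Subgroup.orderOf_dvd_natCard D ht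
  rcases hD with hD | hD | hD <;> rw [hD] at h1
  · exact h1.trans (by norm_num)
  · exact h1.trans (by norm_num)
  · exact h1

theorem exists_ne_one_of_card {D : Subgroup G} (hD : Nat.card D = 2 ∨ Nat.card D = 4 ∨ Nat.card D = 8) :
    ∃ t ∈ D, t ≠ 1 := by
  have : Nontrivial D := by
    rw [← Finite.one_lt_card_iff_nontrivial]
    omega
  obtain ⟨t, ht⟩ := exists_ne (1 : D)
  exact ⟨t, t.2, fun h => ht (Subtype.ext h)⟩

theorem not_seven_dvd_normalizer (h : Nat.card G = 168) {D : Subgroup G}
    (hD : Nat.card D = 2 ∨ Nat.card D = 4) : ¬ 7 ∣ Nat.card (normalizer (D : Set G)) := by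
  intro h7
  obtain ⟨y, hy⟩ := exists_prime_orderOf_dvd_card' (G := normalizer (D : Set G)) 7 h7
  have hy' : orderOf (y : G) = 7 := (Subgroup.orderOf_coe y).trans hy
  have h1 : (y : G) ∈ centralizer (D : Set G) := by
    apply centralizes_of_coprime D y.2
    rw [hy']
    apply Nat.Coprime.coprime_dvd_right (card_mulAut_dvd_factorial D)
    rcases hD with hD | hD <;> rw [hD] <;> decide
  obtain ⟨t, ht, ht1⟩ := exists_ne_one_of_card (D := D) (by tauto)
  exact not_commute h (Or.inr hy') (orderOf_dvd_eight_of_mem (by tauto) ht) ht1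
    (mem_centralizer_iff.mp h1 t ht).symm

theorem not_three_dvd_normalizer_two (h : Nat.card G = 168) {D : Subgroup G}
    (hD : Nat.card D = 2) : ¬ 3 ∣ Nat.card (normalizer (D : Set G)) := by
  intro h7
  obtain ⟨y, hy⟩ := exists_prime_orderOf_dvd_card' (G := normalizer (D : Set G)) 3 h7
  have hy' : orderOf (y : G) = 3 := (Subgroup.orderOf_coe y).trans hy
  have h1 : (y : G) ∈ centralizer (D : Set G) := by
    apply centralizes_of_coprime D y.2
    rw [hy']
    apply Nat.Coprime.coprime_dvd_right (card_mulAut_dvd_factorial D)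
    rw [hD]; decide
  obtain ⟨t, ht, ht1⟩ := exists_ne_one_of_card (D := D) (by tauto)
  exact not_commute h (Or.inl hy') (orderOf_dvd_eight_of_mem (by tauto) ht) ht1
    (mem_centralizer_iff.mp h1 t ht).symm

theorem orderOf_ne_six (h : Nat.card G = 168) (g : G) : orderOf g ≠ 6 := by
  intro h6
  rcases orders h g with h1 | h1 | h1
  · rw [h6] at h1; norm_num at h1
  · omega
  · omega

/-- a subgroup of order 24 is isomorphic to the symmetric group of degree 4 -/
theorem equiv_perm_of_card (h : Nat.card G = 168) {M : Subgroup G} (hM : Nat.card M = 24) :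
    Nonempty (M ≃* Equiv.Perm (Fin 4)) :=
  Cfsg.Agent.S1012.result hM (fun g hg => orderOf_ne_six h (g : G) ((Subgroup.orderOf_coe g).trans hg))

/-- normalisers of subgroups `D` of order 2 or 4 normalised by two distinct Sylow 2-subgroups -/
theorem card_normalizer_of_two_sylow (h : Nat.card G = 168) {D : Subgroup G} (hD : Nat.card D = 4)
    {P R : Sylow 2 G} (hPR : P ≠ R) (hP : (P : Subgroup G) ≤ normalizer (D : Set G))
    (hR : (R : Subgroup G) ≤ normalizer (D : Set G)) : Nat.card (normalizer (D : Set G)) = 24 := by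
  have h1 := one_lt_card_sylow_of_two hPR hP hR
  have h2 := card_dvd_of_le hP
  rw [card2 h P] at h2
  have h3 := card_subgroup_dvd_card (normalizer (D : Set G))
  rw [h] at h3
  have h4 := not_seven_dvd_normalizer h (D := D) (by tauto)
  obtain ⟨k, hk⟩ := h2
  rw [hk, show 168 = 8 * 21 by norm_num] at h3
  have h5 := Nat.dvd_of_mul_dvd_mul_left (by norm_num) h3
  have h6 : k ∈ Nat.divisors 21 := Nat.mem_divisors.mpr ⟨h5, by norm_num⟩
  rw [show Nat.divisors 21 = {1, 3, 7, 21} by decide +kernel] at h6
  simp only [Finset.mem_insert, Finset.mem_singleton] at h6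
  rcases h6 with rfl | rfl | rfl | rfl
  · exfalso
    have h7 : (P : Subgroup G) = normalizer (D : Set G) :=
      Subgroup.eq_of_le_of_card_ge hP (by rw [hk, card2 h P])
    have h8 : (R : Subgroup G) = normalizer (D : Set G) :=
      Subgroup.eq_of_le_of_card_ge hR (by rw [hk, card2 h R])
    exact hPR (Sylow.ext (h7.trans h8.symm))
  · exact hk
  · exact absurd ⟨8, hk.trans (by norm_num)⟩ h4
  · exact absurd ⟨24, hk.trans (by norm_num)⟩ h4

/-- index two subgroups are normalised -/
theorem le_normalizer_of_card (h : Nat.card G = 168) {D : Subgroup G} (hD : Nat.card D = 4) {P : Sylow 2 G}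
    (hDP : D ≤ (P : Subgroup G)) : (P : Subgroup G) ≤ normalizer (D : Set G) := by
  have h1 : (D.subgroupOf (P : Subgroup G)).index = 2 := by
    have h2 := relIndex_mul_card_of_le hDP
    rw [hD, card2 h P] at h2
    have : D.relIndex (P : Subgroup G) = 2 := by omega
    exact this
  have h2 : (D.subgroupOf (P : Subgroup G)).Normal := normal_of_index_eq_two h1
  exact (normal_subgroupOf_iff_le_normalizer hDP).mp h2

theorem exists_four_group (h : Nat.card G = 168) :
    ∃ (P : Sylow 2 G) (D : Subgroup G), Nat.card D = 4 ∧ D ≤ (P : Subgroup G) ∧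
      Nat.card (normalizer (D : Set G)) = 24 := by
  classical
  -- choose a pair of distinct Sylow 2-subgroups with maximal intersection
  obtain ⟨P0⟩ : Nonempty (Sylow 2 G) := inferInstance
  obtain ⟨R0, hPR0, hidx0⟩ := exists_sylow_pair (G := G) (p := 2) 3 (by rw [n2 h]; decide) P0
  have hne : Nonempty {x : Sylow 2 G × Sylow 2 G // x.1 ≠ x.2} := ⟨⟨(P0, R0), hPR0⟩⟩
  obtain ⟨⟨⟨P, R⟩, hPR⟩, hmax⟩ := Finite.exists_max
    (fun x : {x : Sylow 2 G × Sylow 2 G // x.1 ≠ x.2} => Nat.card ↥((x.1.1 : Subgroup G) ⊓ (x.1.2 : Subgroup G)))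
  simp only at hPR hmax
  set D : Subgroup G := (P : Subgroup G) ⊓ (R : Subgroup G) with hD
  have h0 : 2 ≤ Nat.card D := by
    have h1 := hmax ⟨(P0, R0), hPR0⟩
    simp only at h1
    have h2 := relIndex_mul_card_of_le (inf_le_left : (P0 : Subgroup G) ⊓ (R0 : Subgroup G) ≤ P0)
    rw [inf_relIndex_left, card2 h P0] at h2
    have h3 : (R0 : Subgroup G).relIndex (P0 : Subgroup G) ≤ 4 := hidx0
    nlinarith
  have h1 : Nat.card D ∣ 8 := by
    rw [← card2 h P]
    exact card_dvd_of_le inf_le_left
  have h2 : Nat.card D ≠ 8 := by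
    intro h3
    apply hPR
    apply Sylow.ext
    have h4 : D = P := Subgroup.eq_of_le_of_card_ge inf_le_left (by rw [h3, card2 h P])
    have h5 : D = R := Subgroup.eq_of_le_of_card_ge inf_le_right (by rw [h3, card2 h R])
    exact h4.symm.trans h5
  have h3 : Nat.card D = 2 ∨ Nat.card D = 4 := by
    have h4 : Nat.card D ∈ Nat.divisors 8 := Nat.mem_divisors.mpr ⟨h1, by norm_num⟩
    rw [show Nat.divisors 8 = {1, 2, 4, 8} by decide +kernel] at h4
    simp only [Finset.mem_insert, Finset.mem_singleton] at h4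
    omega
  rcases h3 with h3 | h3
  · -- |D| = 2: the normaliser is a 2-group, contradiction
    exfalso
    have h4 := not_three_dvd_normalizer_two h h3
    have h5 := not_seven_dvd_normalizer h (D := D) (Or.inl h3)
    -- the normaliser is a 2-group
    have h6 : IsPGroup 2 (normalizer (D : Set G)) := by
      have h7 : Nat.card (normalizer (D : Set G)) ∣ 2 ^ 3 := by
        have h8 := card_subgroup_dvd_card (normalizer (D : Set G))
        rw [h] at h8
        have h9 : Nat.Coprime (Nat.card (normalizer (D : Set G))) 21 := by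
          rw [show 21 = 3 * 7 by norm_num]
          apply Nat.Coprime.mul_right
          · rw [Nat.coprime_comm]; exact (Nat.Prime.coprime_iff_not_dvd (by norm_num)).mpr h4
          · rw [Nat.coprime_comm]; exact (Nat.Prime.coprime_iff_not_dvd (by norm_num)).mpr h5
        exact h9.dvd_of_dvd_mul_right (by norm_num; exact h8)
      obtain ⟨k, -, hk⟩ := (Nat.dvd_prime_pow Nat.prime_two).mp h7
      exact IsPGroup.of_card hk
    obtain ⟨T, hT⟩ := h6.exists_le_sylow
    have key : ∀ Q : Sylow 2 G, D ≤ (Q : Subgroup G) → Q = T := by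
      intro Q hQ
      by_contra hQT
      have h7 := hmax ⟨(Q, T), hQT⟩
      simp only at h7
      have h8 : NormalizerCondition (Q : Subgroup G) := by
        have : Group.IsNilpotent (Q : Subgroup G) := Q.2.isNilpotent
        exact Group.normalizerCondition_of_isNilpotent
      have h9 : D.subgroupOf (Q : Subgroup G) < ⊤ := by
        rw [lt_top_iff_ne_top]
        intro h4
        have h10 := card_le_of_le (Subgroup.subgroupOf_eq_top.mp h4)
        rw [card2 h Q] at h10
        omega
      have h10 := h8 _ h9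
      rw [← Subgroup.subgroupOf_normalizer_eq hQ] at h10
      obtain ⟨x, hx1, hx2⟩ := SetLike.exists_of_lt h10
      have h11 : D < (Q : Subgroup G) ⊓ (T : Subgroup G) := by
        have hm : (x : G) ∈ (Q : Subgroup G) ⊓ (T : Subgroup G) := ⟨x.2, hT hx1⟩
        have hm2 : (x : G) ∉ D := hx2
        exact SetLike.lt_iff_le_and_exists.mpr ⟨le_inf hQ (le_normalizer.trans hT), (x : G), hm, hm2⟩
      have h12 : Nat.card D < Nat.card ↥((Q : Subgroup G) ⊓ (T : Subgroup G)) := by
        refine lt_of_le_of_ne (card_le_of_le h11.le) fun h13 => h11.ne (Subgroup.eq_of_le_of_card_ge h11.le h13.ge)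
      omega
    exact hPR ((key P inf_le_left).trans (key R inf_le_right).symm)
  · exact ⟨P, D, h3, inf_le_left, card_normalizer_of_two_sylow h h3 hPR (le_normalizer_of_card h h3 inf_le_left)
      (le_normalizer_of_card h h3 inf_le_right)⟩

theorem sylow_two_dihedral (h : Nat.card G = 168) (T : Sylow 2 G) :
    Nonempty (↥(T : Subgroup G) ≃* DihedralGroup 4) := by
  obtain ⟨P, D, hD, hDP, hN⟩ := exists_four_group h
  obtain ⟨e⟩ := equiv_perm_of_card h hN
  have h1 : (P : Subgroup G) ≤ normalizer (D : Set G) := le_normalizer_of_card h hD hDP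
  have h2 : Nat.card ((P : Subgroup G).subgroupOf (normalizer (D : Set G))) = 8 := by
    rw [Nat.card_congr (subgroupOfEquivOfLe h1).toEquiv, card2 h P]
  obtain ⟨e2⟩ := D4.nonempty_mulEquiv_of_perm e _ h2
  exact ⟨((Sylow.equiv T P).trans (subgroupOfEquivOfLe h1).symm).trans e2⟩

theorem normalizer_sylow_two (h : Nat.card G = 168) (T : Sylow 2 G) :
    normalizer ((T : Subgroup G) : Set G) = T := by
  symm
  apply Subgroup.eq_of_le_of_card_ge le_normalizer
  have h1 := card_normalizer_mul T
  rw [n2 h, h] at h1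
  rw [card2 h T]
  omega

theorem centralizer_eq_sylow (h : Nat.card G = 168) (T : Sylow 2 G) {z : G} (hz : z ∈ (T : Subgroup G))
    (hz1 : z ≠ 1) (hc : ∀ t ∈ (T : Subgroup G), t * z = z * t) : centralizer ({z} : Set G) = T := by
  have hz8 : orderOf z ∣ 8 := by
    have := Subgroup.orderOf_dvd_natCard (T : Subgroup G) hz
    rwa [card2 h T] at this
  have h1 : IsPGroup 2 (centralizer ({z} : Set G)) := by
    intro x
    have h2 : Commute (x : G) z := mem_centralizer_singleton_iff.mp x.2
    rcases orders h (x : G) with h3 | h3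
    · refine ⟨3, ?_⟩
      apply Subtype.ext
      rw [Subgroup.coe_pow, Subgroup.coe_one]
      exact orderOf_dvd_iff_pow_eq_one.mp h3
    · exact absurd h2 (fun h2 => not_commute h h3 hz8 hz1 h2)
  exact T.3 h1 (fun t ht => mem_centralizer_singleton_iff.mpr (hc t ht))

end Cfsg.Agent.H17.O168
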