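import Cfsg.Agent.H17.Order168b

set_option autoImplicit false
set_option linter.unusedSectionVars false

/-!
# Simple groups of order 168, third part: classes (helper17)
-/

namespace Cfsg.Agent.H17.O168

open Subgroup MulAction Cfsg.Agent.H17

universe u

attribute [local instance] fact3 fact7

variable {G : Type u} [Group G] [Finite G] [IsSimpleGroup G]

/-- In each Sylow 2-subgroup: the element `r` of order 4, with `z = r²` central, `C(z) = T`, `C(r) = ⟨r⟩`. -/
theorem exists_r (h : Nat.card G = 168) (T : Sylow 2 G) (e : ↥(T : Subgroup G) ≃* DihedralGroup 4) :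
    ∃ r : G, r ∈ (T : Subgroup G) ∧ orderOf r = 4 ∧ orderOf (r ^ 2) = 2 ∧
      (∀ t ∈ (T : Subgroup G), t * r ^ 2 = r ^ 2 * t) ∧
      centralizer ({r ^ 2} : Set G) = T ∧ centralizer ({r} : Set G) = zpowers r := by
  let r : (T : Subgroup G) := e.symm (DihedralGroup.r 1)
  have hr4 : orderOf (r : G) = 4 := by
    rw [Subgroup.orderOf_coe, MulEquiv.orderOf_eq, DihedralGroup.orderOf_r_one]
  have hr2 : orderOf ((r : G) ^ 2) = 2 := by
    rw [orderOf_pow' _ (by norm_num), hr4]; norm_num
  have hcen : ∀ t ∈ (T : Subgroup G), t * (r : G) ^ 2 = (r : G) ^ 2 * t := by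
    intro t ht
    have h1 : ∀ x : DihedralGroup 4, x * (DihedralGroup.r 1) ^ 2 = (DihedralGroup.r 1) ^ 2 * x := by decide
    have h2 : (⟨t, ht⟩ : (T : Subgroup G)) * r ^ 2 = r ^ 2 * ⟨t, ht⟩ := by
      apply e.injective
      rw [map_mul, map_mul, map_pow]
      simp only [r, MulEquiv.apply_symm_apply]
      exact h1 _
    exact congrArg Subtype.val h2
  have hne : (r : G) ^ 2 ≠ 1 := by
    intro h1
    rw [h1, orderOf_one] at hr2
    norm_num at hr2
  have hCz := centralizer_eq_sylow h T ((T : Subgroup G).pow_mem r.2 2) hne hcen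
  refine ⟨r, r.2, hr4, hr2, hcen, hCz, ?_⟩
  apply le_antisymm
  · intro x hx
    rw [mem_centralizer_singleton_iff] at hx
    have hxT : x ∈ (T : Subgroup G) := by
      rw [← hCz, mem_centralizer_singleton_iff]
      exact (Commute.pow_right hx 2).eq
    have h1 : ∀ y : DihedralGroup 4, y * DihedralGroup.r 1 = DihedralGroup.r 1 * y →
        y = (DihedralGroup.r 1) ^ 0 ∨ y = (DihedralGroup.r 1) ^ 1 ∨ y = (DihedralGroup.r 1) ^ 2 ∨
        y = (DihedralGroup.r 1) ^ 3 := by decide
    have h2 : e ⟨x, hxT⟩ * DihedralGroup.r 1 = DihedralGroup.r 1 * e ⟨x, hxT⟩ := by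
      have h3 : (⟨x, hxT⟩ : (T : Subgroup G)) * r = r * ⟨x, hxT⟩ := Subtype.ext hx
      have h4 := congrArg e h3
      rw [map_mul, map_mul] at h4
      simpa [r] using h4
    have h5 : ∃ k : ℕ, e ⟨x, hxT⟩ = (DihedralGroup.r 1) ^ k := by
      rcases h1 _ h2 with h3 | h3 | h3 | h3
      exacts [⟨0, h3⟩, ⟨1, h3⟩, ⟨2, h3⟩, ⟨3, h3⟩]
    obtain ⟨k, hk⟩ := h5
    have h6 : (⟨x, hxT⟩ : (T : Subgroup G)) = r ^ k := by
      apply e.injective
      rw [hk, map_pow]
      simp [r]
    have h7 : x = (r : G) ^ k := congrArg Subtype.val h6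
    rw [h7]
    exact pow_mem (mem_zpowers _) k
  · rw [zpowers_le, mem_centralizer_singleton_iff]

theorem two_elements (h : Nat.card G = 168) {r : G} (hr4 : orderOf r = 4) (hr2 : orderOf (r ^ 2) = 2)
    (hC2 : Nat.card (centralizer ({r ^ 2} : Set G)) = 8) (hC4 : Nat.card (centralizer ({r} : Set G)) = 4)
    (g : G) (hg : orderOf g ∣ 8) : g = 1 ∨ IsConj (r ^ 2) g ∨ IsConj r g := by
  classical
  have : Fintype G := Fintype.ofFinite G
  have h1 : Nat.card {y : G // IsConj (r ^ 2) y} = 21 := by
    have := card_conj_mul_card_centralizer (r ^ 2)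
    rw [hC2, h] at this
    omega
  have h2 : Nat.card {y : G // IsConj r y} = 42 := by
    have := card_conj_mul_card_centralizer r
    rw [hC4, h] at this
    omega
  have h3 := card_two_elts h
  rw [Nat.card_eq_fintype_card, Fintype.card_subtype] at h1 h2 h3
  have hord : ∀ {a b : G}, IsConj a b → orderOf a = orderOf b := by
    intro a b hab
    obtain ⟨c, rfl⟩ := isConj_iff.mp hab
    have : c * a * c⁻¹ = MulAut.conj c a := rfl
    rw [this, MulEquiv.orderOf_eq]
  set A := Finset.univ.filter (fun y : G => IsConj (r ^ 2) y) with hA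
  set B := Finset.univ.filter (fun y : G => IsConj r y) with hB
  set C := Finset.univ.filter (fun y : G => orderOf y ∣ 8) with hC
  have hAo : ∀ y ∈ A, orderOf y = 2 := fun y hy => by
    rw [hA, Finset.mem_filter] at hy
    rw [← hord hy.2, hr2]
  have hBo : ∀ y ∈ B, orderOf y = 4 := fun y hy => by
    rw [hB, Finset.mem_filter] at hy
    rw [← hord hy.2, hr4]
  have hAB : Disjoint A B := by
    rw [Finset.disjoint_left]
    intro y h4 h5
    have := hAo y h4
    have := hBo y h5
    omega
  have h1AB : Disjoint {1} (A ∪ B) := by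
    rw [Finset.disjoint_left]
    intro y h4 h5
    rw [Finset.mem_singleton] at h4
    subst h4
    rw [Finset.mem_union] at h5
    rcases h5 with h5 | h5
    · have := hAo _ h5; rw [orderOf_one] at this; omega
    · have := hBo _ h5; rw [orderOf_one] at this; omega
  have hsub : {1} ∪ (A ∪ B) ⊆ C := by
    intro y hy
    rw [hC, Finset.mem_filter]
    refine ⟨Finset.mem_univ _, ?_⟩
    rw [Finset.mem_union, Finset.mem_union, Finset.mem_singleton] at hy
    rcases hy with rfl | hy | hy
    · rw [orderOf_one]; norm_num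
    · rw [hAo y hy]; norm_num
    · rw [hBo y hy]; norm_num
  have hcard : ({1} ∪ (A ∪ B)).card = 64 := by
    rw [Finset.card_union_of_disjoint h1AB, Finset.card_union_of_disjoint hAB, h1, h2]; rfl
  have heq : {1} ∪ (A ∪ B) = C := Finset.eq_of_subset_of_card_le hsub (by rw [h3, hcard])
  have hgC : g ∈ C := by rw [hC, Finset.mem_filter]; exact ⟨Finset.mem_univ _, hg⟩
  rw [← heq, Finset.mem_union, Finset.mem_union, Finset.mem_singleton, hA, hB, Finset.mem_filter,
    Finset.mem_filter] at hgC
  tauto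

theorem orderOf_eq_of_isConj {a b : G} (hab : IsConj a b) : orderOf a = orderOf b := by
  obtain ⟨c, rfl⟩ := isConj_iff.mp hab
  have : c * a * c⁻¹ = MulAut.conj c a := rfl
  rw [this, MulEquiv.orderOf_eq]

theorem exists_good_r (h : Nat.card G = 168) (T : Sylow 2 G) : ∃ r : G, r ∈ (T : Subgroup G) ∧ orderOf r = 4 ∧
    orderOf (r ^ 2) = 2 ∧ (∀ t ∈ (T : Subgroup G), t * r ^ 2 = r ^ 2 * t) ∧
      centralizer ({r ^ 2} : Set G) = T ∧ centralizer ({r} : Set G) = zpowers r ∧
      (∀ g : G, orderOf g = 2 → IsConj (r ^ 2) g) ∧ (∀ g : G, orderOf g = 4 → IsConj r g) ∧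
      (∀ g : G, orderOf g ∣ 8 → orderOf g = 1 ∨ orderOf g = 2 ∨ orderOf g = 4) := by
  obtain ⟨e⟩ := sylow_two_dihedral h T
  obtain ⟨r, h1, h2, h3, h4, h5, h6⟩ := exists_r h T e
  have h7 : Nat.card (centralizer ({r ^ 2} : Set G)) = 8 := by rw [h5, card2 h T]
  have h8 : Nat.card (centralizer ({r} : Set G)) = 4 := by rw [h6, Nat.card_zpowers, h2]
  have h9 := two_elements h h2 h3 h7 h8
  refine ⟨r, h1, h2, h3, h4, h5, h6, ?_, ?_, ?_⟩
  · intro g hg
    rcases h9 g (by rw [hg]; norm_num) with h10 | h10 | h10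
    · rw [h10, orderOf_one] at hg; norm_num at hg
    · exact h10
    · have := orderOf_eq_of_isConj h10
      omega
  · intro g hg
    rcases h9 g (by rw [hg]; norm_num) with h10 | h10 | h10
    · rw [h10, orderOf_one] at hg; norm_num at hg
    · have := orderOf_eq_of_isConj h10
      omega
    · exact h10
  · intro g hg
    rcases h9 g hg with h10 | h10 | h10
    · left; rw [h10, orderOf_one]
    · right; left; rw [← orderOf_eq_of_isConj h10, h3]
    · right; right; rw [← orderOf_eq_of_isConj h10, h2]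

theorem card_involutions (h : Nat.card G = 168) : Nat.card {g : G // orderOf g = 2} = 21 ∧
    (∀ s t : G, orderOf s = 2 → orderOf t = 2 → IsConj s t) ∧ Nat.card {g : G // orderOf g = 4} = 42 ∧
    (∀ s t : G, orderOf s = 4 → orderOf t = 4 → IsConj s t) ∧
    (∀ g : G, orderOf g = 1 ∨ orderOf g = 2 ∨ orderOf g = 3 ∨ orderOf g = 4 ∨ orderOf g = 7) := by
  obtain ⟨T⟩ : Nonempty (Sylow 2 G) := inferInstance
  obtain ⟨r, h1, h2, h3, h4, h5, h6, h7, h8, h9⟩ := exists_good_r h T
  refine ⟨?_, fun s t hs ht => (h7 s hs).symm.trans (h7 t ht), ?_, fun s t hs ht => (h8 s hs).symm.trans (h8 t ht), ?_⟩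
  · have h10 : Nat.card {g : G // orderOf g = 2} = Nat.card {g : G // IsConj (r ^ 2) g} :=
      Nat.card_congr (Equiv.subtypeEquivRight fun g => ⟨fun hg => h7 g hg, fun hg => by
        rw [← orderOf_eq_of_isConj hg, h3]⟩)
    have h11 := card_conj_mul_card_centralizer (r ^ 2)
    rw [h5, card2 h T, h] at h11
    omega
  · have h10 : Nat.card {g : G // orderOf g = 4} = Nat.card {g : G // IsConj r g} :=
      Nat.card_congr (Equiv.subtypeEquivRight fun g => ⟨fun hg => h8 g hg, fun hg => by
        rw [← orderOf_eq_of_isConj hg, h2]⟩)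
    have h11 := card_conj_mul_card_centralizer r
    rw [h6, Nat.card_zpowers, h2, h] at h11
    omega
  · intro g
    rcases orders h g with h10 | h10 | h10
    · rcases h9 g h10 with h11 | h11 | h11 <;> tauto
    · tauto
    · tauto

/-- the class of an element of order 3 -/
theorem isConj_three (h : Nat.card G = 168) {s t : G} (hs : orderOf s = 3) (ht : orderOf t = 3) : IsConj s t := by
  classical
  have : Fintype G := Fintype.ofFinite G
  have h1 : Nat.card (centralizer ({s} : Set G)) = 3 := by
    have h2 : centralizer ({s} : Set G) = zpowers s := by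
      apply le_antisymm
      · intro x hx
        exact mem_zpowers_of_commute3 h hs (mem_centralizer_singleton_iff.mp hx).symm
      · rw [zpowers_le, mem_centralizer_singleton_iff]
    rw [h2, Nat.card_zpowers, hs]
  have h2 : Nat.card {y : G // IsConj s y} = 56 := by
    have := card_conj_mul_card_centralizer s
    rw [h1, h] at this
    omega
  have h3 := card_ord3 h
  rw [Nat.card_eq_fintype_card, Fintype.card_subtype] at h2 h3
  have h4 : Finset.univ.filter (fun y : G => IsConj s y) = Finset.univ.filter (fun y : G => orderOf y = 3) := by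
    apply Finset.eq_of_subset_of_card_le
    · intro y hy
      rw [Finset.mem_filter] at hy ⊢
      exact ⟨hy.1, by rw [← orderOf_eq_of_isConj hy.2, hs]⟩
    · rw [h2, h3]
  have h5 : t ∈ Finset.univ.filter (fun y : G => IsConj s y) := by
    rw [h4, Finset.mem_filter]
    exact ⟨Finset.mem_univ _, ht⟩
  exact (Finset.mem_filter.mp h5).2

theorem order_seven (h : Nat.card G = 168) {x : G} (hx : orderOf x = 7) :
    Nat.card {g : G // IsConj x g} = 24 ∧ ¬ IsConj x x⁻¹ := by
  have h2 : centralizer ({x} : Set G) = zpowers x := by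
    apply le_antisymm
    · intro y hy
      exact not_commute_of_order7 h hx (mem_centralizer_singleton_iff.mp hy).symm
    · rw [zpowers_le, mem_centralizer_singleton_iff]
  have h1 : Nat.card (centralizer ({x} : Set G)) = 7 := by
    rw [h2, Nat.card_zpowers, hx]
  constructor
  · have := card_conj_mul_card_centralizer x
    rw [h1, h] at this
    omega
  · intro hc
    obtain ⟨g, hg⟩ := isConj_iff.mp hc
    obtain ⟨P, hP⟩ : ∃ P : Sylow 7 G, (P : Subgroup G) = zpowers x := by
      obtain ⟨P⟩ : Nonempty (Sylow 7 G) := inferInstance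
      exact ⟨sylowOfElt P (card7 h P) x hx, rfl⟩
    have hgN : g ∈ normalizer ((P : Subgroup G) : Set G) := by
      rw [hP]
      apply mem_normalizer_iff.mpr
      intro y
      constructor
      · intro hy
        obtain ⟨k, rfl⟩ := mem_zpowers_iff.mp hy
        rw [← conj_zpow, hg]
        exact zpow_mem (inv_mem (mem_zpowers x)) k
      · intro hy
        obtain ⟨k, hk⟩ := mem_zpowers_iff.mp hy
        have h3 : g⁻¹ * x * g = x⁻¹ := by
          have h4 : g * x⁻¹ * g⁻¹ = x := by
            rw [← conj_inv, hg, inv_inv]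
          calc g⁻¹ * x * g = g⁻¹ * (g * x⁻¹ * g⁻¹) * g := by rw [h4]
            _ = x⁻¹ := by group
        have h5 : y = (g⁻¹ * x * g) ^ k := by
          have h6 : (g⁻¹ * x * g) ^ k = g⁻¹ * x ^ k * g := by
            have := conj_zpow (i := k) (a := g⁻¹) (b := x)
            rwa [inv_inv] at this
          rw [h6, hk]
          group
        rw [h5, h3]
        exact zpow_mem (inv_mem (mem_zpowers x)) k
    have h3 : orderOf g ∣ 21 := by
      have := Subgroup.orderOf_dvd_natCard _ hgN
      rwa [cardN7 h P] at this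
    have h4 : g ^ 2 * x * (g ^ 2)⁻¹ = x := by
      have h5 : g ^ 2 * x * (g ^ 2)⁻¹ = g * (g * x * g⁻¹) * g⁻¹ := by
        rw [pow_two, mul_inv_rev]
        simp only [mul_assoc]
      rw [h5, hg, ← conj_inv, hg, inv_inv]
    have h5 : Commute (g ^ 2) x := by
      rw [mul_inv_eq_iff_eq_mul] at h4
      exact h4
    -- g is a power of g^2
    have h6 : g = (g ^ 2) ^ 11 := by
      rw [← pow_mul]
      have h7 : g ^ 21 = 1 := orderOf_dvd_iff_pow_eq_one.mp h3
      rw [show 2 * 11 = 21 + 1 by norm_num, pow_add, h7, one_mul, pow_one]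
    have h7 : Commute g x := by
      rw [h6]
      exact h5.pow_left 11
    have h8 : x = x⁻¹ := by
      rw [← hg, h7.eq]
      group
    have h9 : x ^ 2 = 1 := by
      rw [pow_two]
      nth_rw 2 [h8]
      group
    have := orderOf_dvd_of_pow_eq_one h9
    rw [hx] at this
    norm_num at this

end Cfsg.Agent.H17.O168
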