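import Cfsg.Agent.H17.Order168c

set_option autoImplicit false
set_option linter.unusedSectionVars false

/-!
# Simple groups of order 168, fourth part: Klein four-groups (helper17)
-/

namespace Cfsg.Agent.H17

theorem isKleinFour_of_mulEquiv {H K : Type*} [Group H] [Group K] (e : H ≃* K) (h : IsKleinFour H) :
    IsKleinFour K where
  card_four := by rw [← Nat.card_congr e.toEquiv]; exact h.card_four
  exponent_two := by rw [← Monoid.exponent_eq_of_mulEquiv e]; exact h.exponent_two

end Cfsg.Agent.H17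

namespace Cfsg.Agent.H17.O168

open Subgroup MulAction Cfsg.Agent.H17

universe u

attribute [local instance] fact3 fact7

/-- Klein four subgroups below `T`, `T` isomorphic to the dihedral group of order 8 -/
noncomputable def kleinEquiv {G : Type u} [Group G] (T : Subgroup G) (e : ↥T ≃* DihedralGroup 4) :
    {U : Subgroup G // U ≤ T ∧ IsKleinFour ↥U} ≃ {U : Subgroup (DihedralGroup 4) // IsKleinFour U} where
  toFun U := ⟨(U.1.subgroupOf T).map e.toMonoidHom, by
    have e1 : U.1 ≃* (U.1.subgroupOf T) := (subgroupOfEquivOfLe U.2.1).symm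
    have e2 : (U.1.subgroupOf T) ≃* (U.1.subgroupOf T).map e.toMonoidHom :=
      (U.1.subgroupOf T).equivMapOfInjective e.toMonoidHom e.injective
    exact isKleinFour_of_mulEquiv (e1.trans e2) U.2.2⟩
  invFun V := ⟨(V.1.comap e.toMonoidHom).map T.subtype, map_subtype_le _, by
    have e1 : V.1.comap e.toMonoidHom ≃* (V.1.comap e.toMonoidHom).map T.subtype :=
      (V.1.comap e.toMonoidHom).equivMapOfInjective T.subtype T.subtype_injective
    have e2 : V.1.comap e.toMonoidHom ≃* (V.1.comap e.toMonoidHom).map e.toMonoidHom :=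
      (V.1.comap e.toMonoidHom).equivMapOfInjective e.toMonoidHom e.injective
    have h1 : (V.1.comap e.toMonoidHom).map e.toMonoidHom = V.1 := map_comap_eq_self_of_surjective e.surjective _
    have h2 : IsKleinFour ((V.1.comap e.toMonoidHom).map e.toMonoidHom) := by rw [h1]; exact V.2
    exact isKleinFour_of_mulEquiv (e2.symm.trans e1) h2⟩
  left_inv U := by
    apply Subtype.ext
    simp only
    rw [comap_map_eq_self_of_injective e.injective, subgroupOf_map_subtype, inf_eq_left.mpr U.2.1]
  right_inv V := by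
    apply Subtype.ext
    simp only
    rw [← comap_subtype, comap_map_eq_self_of_injective T.subtype_injective,
      map_comap_eq_self_of_surjective e.surjective]

theorem card_klein_le {G : Type u} [Group G] (T : Subgroup G) (e : ↥T ≃* DihedralGroup 4) :
    Nat.card {U : Subgroup G // U ≤ T ∧ IsKleinFour ↥U} = 2 := by
  rw [Nat.card_congr (kleinEquiv T e), D4.card_klein]

theorem klein_facts {G : Type u} [Group G] (T : Subgroup G) (e : ↥T ≃* DihedralGroup 4) (U : Subgroup G)
    (hUT : U ≤ T) (hU : IsKleinFour U) :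
    ∃ z a : G, z ∈ U ∧ a ∈ U ∧ orderOf z = 2 ∧ orderOf a = 2 ∧ (∀ t ∈ T, t * z = z * t) ∧
      ¬ (∀ t ∈ T, t * a = a * t) := by
  set V := (U.subgroupOf T).map e.toMonoidHom with hV
  have hVk : IsKleinFour V := (kleinEquiv T e ⟨U, hUT, hU⟩).2
  have hmem : ∀ x : DihedralGroup 4, x ∈ V → ((e.symm x : T) : G) ∈ U := by
    rintro x ⟨y, hy, rfl⟩
    have h1 : e.symm (e.toMonoidHom y) = y := e.symm_apply_apply y
    rw [h1]
    exact hy
  have ho : ∀ x : DihedralGroup 4, orderOf ((e.symm x : T) : G) = orderOf x := fun x => by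
    rw [Subgroup.orderOf_coe, MulEquiv.orderOf_eq]
  have hr2 : orderOf (DihedralGroup.r 2 : DihedralGroup 4) = 2 :=
    orderOf_eq_prime (by decide) (by decide)
  have hs0 : orderOf (DihedralGroup.sr 0 : DihedralGroup 4) = 2 :=
    orderOf_eq_prime (by decide) (by decide)
  have hs1 : orderOf (DihedralGroup.sr 1 : DihedralGroup 4) = 2 :=
    orderOf_eq_prime (by decide) (by decide)
  have hcen : ∀ t ∈ T, t * ((e.symm (DihedralGroup.r 2) : T) : G) = ((e.symm (DihedralGroup.r 2) : T) : G) * t := by
    intro t ht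
    have h1 : ∀ x : DihedralGroup 4, x * DihedralGroup.r 2 = DihedralGroup.r 2 * x := by decide
    have h2 : (⟨t, ht⟩ : T) * e.symm (DihedralGroup.r 2) = e.symm (DihedralGroup.r 2) * ⟨t, ht⟩ := by
      apply e.injective
      rw [map_mul, map_mul, MulEquiv.apply_symm_apply]
      exact h1 _
    exact congrArg Subtype.val h2
  have hncen : ∀ x : DihedralGroup 4, ¬ (x * DihedralGroup.r 1 = DihedralGroup.r 1 * x) →
      ¬ (∀ t ∈ T, t * ((e.symm x : T) : G) = ((e.symm x : T) : G) * t) := by
    intro x hx hall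
    apply hx
    have h1 := hall _ (e.symm (DihedralGroup.r 1)).2
    have h2 : e.symm (DihedralGroup.r 1) * e.symm x = e.symm x * e.symm (DihedralGroup.r 1) := Subtype.ext h1
    have h3 := congrArg e h2
    rw [map_mul, map_mul, MulEquiv.apply_symm_apply, MulEquiv.apply_symm_apply] at h3
    exact h3.symm
  rcases (D4.klein_iff V).mp hVk with h1 | h1
  · refine ⟨_, _, hmem (DihedralGroup.r 2) ?_, hmem (DihedralGroup.sr 0) ?_, (ho _).trans hr2, (ho _).trans hs0,
      hcen, hncen _ (by decide)⟩
    · rw [h1, D4.mem_A]; tauto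
    · rw [h1, D4.mem_A]; tauto
  · refine ⟨_, _, hmem (DihedralGroup.r 2) ?_, hmem (DihedralGroup.sr 1) ?_, (ho _).trans hr2, (ho _).trans hs1,
      hcen, hncen _ (by decide)⟩
    · rw [h1, D4.mem_B]; tauto
    · rw [h1, D4.mem_B]; tauto

variable {G : Type u} [Group G] [Finite G] [IsSimpleGroup G]

theorem exists_sylow_of_klein {U : Subgroup G} (hU : IsKleinFour U) : ∃ T : Sylow 2 G, U ≤ (T : Subgroup G) := by
  have : IsPGroup 2 U := IsPGroup.of_card (n := 2) (by rw [hU.card_four]; rfl)
  exact this.exists_le_sylow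

theorem card_normalizer_klein (h : Nat.card G = 168) {U : Subgroup G} (hU : IsKleinFour U) :
    Nat.card (normalizer (U : Set G)) = 24 := by
  obtain ⟨T, hT⟩ := exists_sylow_of_klein hU
  obtain ⟨e⟩ := sylow_two_dihedral h T
  obtain ⟨z, a, hz, ha, hz2, ha2, hcz, hca⟩ := klein_facts (T : Subgroup G) e U hT hU
  obtain ⟨-, hconj, -⟩ := card_involutions h
  obtain ⟨g, hg⟩ := isConj_iff.mp (hconj z a hz2 ha2)
  have haT' : a ∈ ((g • T : Sylow 2 G) : Subgroup G) := by
    rw [Sylow.coe_subgroup_smul, ← hg]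
    exact Subgroup.smul_mem_pointwise_smul z (MulAut.conj g) _ (hT hz)
  have ha1 : a ≠ 1 := by
    rintro rfl
    rw [orderOf_one] at ha2
    norm_num at ha2
  have hcT' : ∀ t ∈ ((g • T : Sylow 2 G) : Subgroup G), t * a = a * t := by
    intro t ht
    rw [Sylow.coe_subgroup_smul, mem_pointwise_smul_iff_inv_smul_mem, ← map_inv, MulAut.smul_def,
      MulAut.conj_apply, inv_inv] at ht
    have h1 := hcz _ ht
    rw [← hg]
    calc t * (g * z * g⁻¹) = g * (g⁻¹ * t * g * z) * g⁻¹ := by group
      _ = g * (z * (g⁻¹ * t * g)) * g⁻¹ := by rw [h1]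
      _ = _ := by group
  have hC := centralizer_eq_sylow h (g • T) haT' ha1 hcT'
  have hUT' : U ≤ ((g • T : Sylow 2 G) : Subgroup G) := by
    rw [← hC]
    intro x hx
    rw [mem_centralizer_singleton_iff]
    have : IsMulCommutative U := IsKleinFour.isMulCommutative
    exact congrArg Subtype.val (mul_comm' (⟨x, hx⟩ : U) ⟨a, ha⟩)
  have hne : T ≠ g • T := by
    intro h1
    apply hca
    rw [← h1] at hcT'
    exact hcT'
  exact card_normalizer_of_two_sylow h hU.card_four hne (le_normalizer_of_card h hU.card_four hT)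
    (le_normalizer_of_card h hU.card_four hUT')

theorem klein_not_conj (h : Nat.card G = 168) (T : Sylow 2 G) {U W : Subgroup G} (hUT : U ≤ (T : Subgroup G))
    (hWT : W ≤ (T : Subgroup G)) (hU : IsKleinFour U) (hW : IsKleinFour W) (hUW : U ≠ W) (g : G) :
    U.map (MulAut.conj g).toMonoidHom ≠ W := by
  intro hg
  apply hUW
  -- T and g • T are Sylow 2-subgroups of N(W)
  have hTN : (T : Subgroup G) ≤ normalizer (W : Set G) := le_normalizer_of_card h hW.card_four hWT
  have hTU : (T : Subgroup G) ≤ normalizer (U : Set G) := le_normalizer_of_card h hU.card_four hUT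
  have hWg : W ≤ ((g • T : Sylow 2 G) : Subgroup G) := by
    rw [← hg, Sylow.coe_subgroup_smul]
    exact map_mono hUT
  have hTN' : ((g • T : Sylow 2 G) : Subgroup G) ≤ normalizer (W : Set G) := le_normalizer_of_card h hW.card_four hWg
  obtain ⟨n, hn⟩ := MulAction.exists_smul_eq (normalizer (W : Set G)) ((g • T).subtype hTN') (T.subtype hTN)
  have h1 : (n : G) • (g • T) = T := by
    apply Sylow.ext
    rw [Sylow.coe_subgroup_smul]
    have h2 := congrArg (fun S : Sylow 2 (normalizer (W : Set G)) => (S : Subgroup (normalizer (W : Set G))).map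
      (normalizer (W : Set G)).subtype) hn
    simp only [Sylow.coe_subgroup_smul, Sylow.coe_subtype, subgroupOf_map_subtype, inf_eq_left.mpr hTN] at h2
    rw [← h2]
    ext x
    rw [mem_pointwise_smul_iff_inv_smul_mem, ← map_inv, MulAut.smul_def, MulAut.conj_apply, inv_inv, mem_map]
    constructor
    · intro hx
      have hxN : x ∈ normalizer (W : Set G) := by
        have h3 := mul_mem (mul_mem n.2 (hTN' hx)) (inv_mem n.2)
        have h4 : (n : G) * ((n : G)⁻¹ * x * (n : G)) * (n : G)⁻¹ = x := by group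
        rwa [h4] at h3
      refine ⟨⟨x, hxN⟩, ?_, rfl⟩
      rw [mem_pointwise_smul_iff_inv_smul_mem, ← map_inv, MulAut.smul_def, MulAut.conj_apply, inv_inv,
        mem_subgroupOf]
      exact hx
    · rintro ⟨y, hy, rfl⟩
      rw [mem_pointwise_smul_iff_inv_smul_mem, ← map_inv, MulAut.smul_def, MulAut.conj_apply, inv_inv,
        mem_subgroupOf] at hy
      exact hy
  have h2 : (n : G) * g ∈ normalizer ((T : Subgroup G) : Set G) := by
    rw [← mul_smul] at h1
    exact Sylow.smul_eq_iff_mem_normalizer.mp h1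
  rw [normalizer_sylow_two h T] at h2
  have h3 : (n : G) * g ∈ normalizer (U : Set G) := hTU h2
  -- U^(n g) = U and U^(ng) = W^n = W
  have h5 : ∀ y : G, y ∈ U ↔ g * y * g⁻¹ ∈ W := by
    intro y
    rw [← hg]
    constructor
    · intro hy
      exact ⟨y, hy, rfl⟩
    · rintro ⟨y', hy', h6⟩
      have h7 : g * y' * g⁻¹ = g * y * g⁻¹ := h6
      have h8 : y' = y := by simpa using h7
      rw [← h8]
      exact hy'
  ext x
  have h4 := mem_normalizer_iff.mp h3 (((n : G) * g)⁻¹ * x * ((n : G) * g))
  have e1 : (n : G) * g * (((n : G) * g)⁻¹ * x * ((n : G) * g)) * ((n : G) * g)⁻¹ = x := by group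
  rw [e1] at h4
  have h6 := h5 (((n : G) * g)⁻¹ * x * ((n : G) * g))
  have e2 : g * (((n : G) * g)⁻¹ * x * ((n : G) * g)) * g⁻¹ = (n : G)⁻¹ * x * n := by group
  rw [e2] at h6
  have h7 := mem_normalizer_iff.mp n.2 ((n : G)⁻¹ * x * n)
  have e3 : (n : G) * ((n : G)⁻¹ * x * n) * (n : G)⁻¹ = x := by group
  rw [e3] at h7
  exact h4.symm.trans (h6.trans h7)

end Cfsg.Agent.H17.O168
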